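import Groth.Agent.TrivAct.Descent
import Groth.Agent.FixedSmooth.Normalizer
/-!
Consequences: conjugation and translation actions; the diagonalisable group over an affine base.
-/

set_option autoImplicit false
set_option backward.isDefEq.respectTransparency false
set_option backward.isDefEq.respectTransparency.types false
set_option linter.style.haveILetI false

universe u

open CategoryTheory CategoryTheory.Limits MonoidalCategory CartesianMonoidalCategory MonObj AlgebraicGeometry

noncomputable section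

namespace Groth.Agent.TrivAct

open FixedSmooth

variable {S : Scheme.{u}}

theorem action_one {G X : Over S} [GrpObj G] (a : AlgGrp.Action G X) (Y : Over S) (x : Y ⟶ X) :
    lift (1 : Y ⟶ G) x ≫ a.act = x := by
  have e : lift (toUnit Y) x ≫ η[G] ▷ X = lift (1 : Y ⟶ G) x := by
    apply CartesianMonoidalCategory.hom_ext <;> simp [Hom.one_def]
  rw [← e, Category.assoc, a.one_act]
  simp [leftUnitor_hom]

/-- Characters and points of `D_R(M)` over `Spec R`. -/
def diagSplit (R : Type u) [CommRing R] (M : Type) [AddCommGroup M] :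
    Split (Red.diag R M) (𝟙 (Spec (CommRingCat.of R))) M where
  pt B q :=
    letI : Algebra R B := (Spec.preimage q).hom.toAlgebra
    (diagPt R M B).trans (precompEquiv (G := Red.diag R M)
      (Over.isoMk (Iso.refl _) (by
        show 𝟙 _ ≫ Spec.map (CommRingCat.ofHom (algebraMap R B)) = q ≫ 𝟙 _
        rw [Category.id_comp, Category.comp_id]
        exact Spec.map_preimage q) :
        Over.mk (q ≫ 𝟙 (Spec (CommRingCat.of R))) ≅ (Spec B).asOver (Spec (CommRingCat.of R))))
  nat B B' q g χ := by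
    apply Over.OverMorphism.ext
    letI : Algebra R B := (Spec.preimage q).hom.toAlgebra
    letI : Algebra R B' := (Spec.preimage (Spec.map g ≫ q)).hom.toAlgebra
    show Spec.map g ≫ 𝟙 _ ≫ (diagPt R M B χ).left = 𝟙 _ ≫ (diagPt R M B' _).left
    rw [Category.id_comp, Category.id_comp]
    refine diagPt_natural R M g (fun r => ?_) χ
    have : Spec.preimage q ≫ g = Spec.preimage (Spec.map g ≫ q) := Spec.map_injective (by simp)
    exact congrArg (fun m => m.hom r) this

theorem hasSplitCovers_diag (R : Type u) [CommRing R] (M : Type) [AddCommGroup M] :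
    HasSplitCovers (Red.diag R M) := fun U hU =>
  ⟨PUnit, inferInstance, fun _ => U.toScheme, fun _ => hU, fun _ => 𝟙 _, fun _ => inferInstance,
    fun p => ⟨⟨⟩, p, rfl⟩, fun _ => ⟨M, inferInstance, ⟨(diagSplit R M).comp U.ι (by simp)⟩⟩⟩

/-- A homomorphism trivial modulo nilpotents is trivial. -/
theorem hom_trivial {G H : Over S} [GrpObj G] [GrpObj H] (hG : HasSplitCovers G) {S₀ : Scheme.{u}} (i₀ : S₀ ⟶ S)
    [IsClosedImmersion i₀] (hnil : ∀ x : S, ∃ U : S.affineOpens, x ∈ (U : S.Opens) ∧ IsNilpotent (i₀.ker.ideal U))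
    (f : G ⟶ H) [IsMonHom f]
    (h0 : ∀ (Y : Over S) (p : Y ⟶ Over.mk i₀) (g : Y ⟶ G), g ≫ f = 1) : f = 1 := by
  let act : G ⊗ H ⟶ H := (fst G H ≫ f) * snd G H
  have hl : ∀ (Y : Over S) (g : Y ⟶ G) (x : Y ⟶ H), lift g x ≫ act = (g ≫ f) * x := fun Y g x => by
    simp [act, MonObj.comp_mul]
  have key := act_trivial i₀ hG act (fun Y h h' x => by simp [hl, MonObj.mul_comp, _root_.mul_assoc])
    (fun Y x => by simp [hl, MonObj.one_comp]) hnil
    (fun Y p g x => by rw [hl, h0 Y p g, _root_.one_mul]) G (𝟙 G) 1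
  rw [hl, Category.id_comp, _root_.mul_one] at key
  exact key

/-- Centrality modulo nilpotents implies centrality. -/
theorem central_of_central_mod {G H : Over S} [GrpObj G] [GrpObj H] (hG : HasSplitCovers G) {S₀ : Scheme.{u}}
    (i₀ : S₀ ⟶ S) [IsClosedImmersion i₀]
    (hnil : ∀ x : S, ∃ U : S.affineOpens, x ∈ (U : S.Opens) ∧ IsNilpotent (i₀.ker.ideal U))
    (f : G ⟶ H) [IsMonHom f]
    (h0 : ∀ (Y : Over S) (p : Y ⟶ Over.mk i₀) (g : Y ⟶ G) (h : Y ⟶ H), (g ≫ f) * h = h * (g ≫ f))
    (Y : Over S) (g : Y ⟶ G) (h : Y ⟶ H) : (g ≫ f) * h = h * (g ≫ f) := by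
  have key := act_trivial i₀ hG (conjAct f f) (conjAct_act f f)
    (fun Y x => by simp [lift_conjAct, MonObj.one_comp]) hnil
    (fun Y p g x => by rw [lift_conjAct, h0 Y p g x, mul_inv_cancel_right]) Y g h
  rw [lift_conjAct] at key
  exact mul_inv_eq_iff_eq_mul.1 key

/-- Triviality after base change to the closed subscheme, on points. -/
theorem comp_eq_one_of_map_eq_one {T : Scheme.{u}} (t : T ⟶ S) {G H : Over S} [GrpObj G] [GrpObj H] (f : G ⟶ H)
    [IsMonHom f] (h : (Over.pullback t).map f = 1) (Y : Over S) (p : Y ⟶ Over.mk t) (g : Y ⟶ G) : g ≫ f = 1 := by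
  let Y' : Over T := Over.mk p.left
  let e : (Over.map t).obj Y' ≅ Y := Over.isoMk (Iso.refl _) (by
    show 𝟙 _ ≫ Y.hom = p.left ≫ t
    rw [Category.id_comp]
    exact (Over.w p).symm)
  have h1 := adjEquiv_comp (G := H) t f (Y := Y') (e.hom ≫ g)
  rw [h, MonObj.comp_one, ← map_one (adjEquiv t H Y')] at h1
  have h2 := (adjEquiv t H Y').injective h1
  rw [← cancel_epi e.hom, ← Category.assoc, h2, MonObj.comp_one]

end Groth.Agent.TrivAct
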