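import Groth.Agent.TrivAct.Descent
import Groth.Agent.FixedSmooth.Props
/-!
Morphisms are determined by the points over affine schemes over which a group splits.
-/

set_option autoImplicit false
set_option backward.isDefEq.respectTransparency false
set_option backward.isDefEq.respectTransparency.types false
set_option linter.style.haveILetI false

universe u

open CategoryTheory CategoryTheory.Limits MonoidalCategory CartesianMonoidalCategory MonObj AlgebraicGeometry

noncomputable section

namespace Groth.Agent.TrivAct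

open FixedSmooth

variable {S : Scheme.{u}} {H : Over S} [GrpObj H]

/-- Test on points over affine schemes on which the group splits. -/
theorem ext_of_split (hH : HasSplitCovers H) {X Y : Over S} {f₁ f₂ : X ⟶ Y}
    (h : ∀ (B : CommRingCat.{u}) (q : Spec B ⟶ S) (M : Type) [AddCommGroup M], Split H q M →
      ∀ w : Over.mk q ⟶ X, w ≫ f₁ = w ≫ f₂) : f₁ = f₂ := by
  refine hom_ext_affine _ _ fun B p w => Over.OverMorphism.ext ?_
  refine Scheme.hom_ext_of_forall _ _ fun t => ?_
  obtain ⟨U, hU, htU, -⟩ := exists_isAffineOpen_mem_and_subset (x := p t) (U := ⊤) trivial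
  obtain ⟨D, hD, htD, hDU⟩ := exists_isAffineOpen_mem_and_subset (x := (t : Spec B)) (U := p ⁻¹ᵁ U) htU
  refine ⟨D, htD, ?_⟩
  haveI : IsAffine U.toScheme := hU
  haveI : IsAffine D.toScheme := hD
  let r : D.toScheme ⟶ U.toScheme := p.resLE U D hDU
  obtain ⟨κ, _, A, hA, k, hk, hks, hσ⟩ := hH U hU
  haveI := hA
  haveI := hk
  haveI : ∀ i, IsAffine (pullback (k i) r) := fun i => inferInstance
  let g : ∀ i, pullback (k i) r ⟶ D.toScheme := fun i => pullback.snd (k i) r
  haveI : Flat (Sigma.desc g) := by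
    haveI : IsZariskiLocalAtSource (@Flat.{u}) :=
      HasRingHomProperty.instIsZariskiLocalAtSource.{u} (Q := RingHom.Flat)
    exact IsZariskiLocalAtSource.sigmaDesc fun i => inferInstance
  haveI : Surjective (Sigma.desc g) := ⟨fun z => by
    obtain ⟨i, a, ha⟩ := hks (r z)
    obtain ⟨y, -, hy⟩ := Scheme.Pullback.exists_preimage_pullback a z ha
    refine ⟨Sigma.ι (fun i => pullback (k i) r) i y, ?_⟩
    erw [← Scheme.Hom.comp_apply, Sigma.ι_desc]
    exact hy⟩
  haveI : Epi (Sigma.desc g) := Flat.epi_of_flat_of_surjective _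
  refine (cancel_epi (Sigma.desc g)).1 (Sigma.hom_ext _ _ fun i => ?_)
  rw [← Category.assoc, ← Category.assoc, Sigma.ι_desc]
  obtain ⟨M, _, ⟨σ⟩⟩ := hσ i
  let P := pullback (k i) r
  let q : Spec Γ(P, ⊤) ⟶ S := (P.isoSpec.inv ≫ pullback.fst (k i) r) ≫ k i ≫ U.ι
  let c : Spec Γ(P, ⊤) ⟶ Spec B := P.isoSpec.inv ≫ g i ≫ D.ι
  let e : Over.mk q ⟶ Over.mk p := Over.homMk c (by
    show c ≫ p = q
    simp only [c, q, g, Category.assoc, ← Scheme.Hom.resLE_comp_ι p hDU]
    rw [← pullback.condition_assoc])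
  have := congrArg CommaMorphism.left (h _ q M (σ.comp (P.isoSpec.inv ≫ pullback.fst (k i) r) rfl) (e ≫ w))
  rw [← cancel_epi P.isoSpec.inv]
  simpa [e, c] using this

end Groth.Agent.TrivAct
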