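import Groth.Agent.TrivAct.FibreDescent
import Groth.Agent.TrivAct.Apps
/-!
A homomorphism which is central on all fibres is central.
-/

set_option autoImplicit false
set_option backward.isDefEq.respectTransparency false
set_option backward.isDefEq.respectTransparency.types false
set_option linter.style.haveILetI false

universe u

open CategoryTheory CategoryTheory.Limits MonoidalCategory CartesianMonoidalCategory MonObj AlgebraicGeometry

noncomputable section

namespace Groth.Agent.TrivAct

open FixedSmooth

variable {S : Scheme.{u}} {H G : Over S} [GrpObj H] [GrpObj G]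

/-- Commutation after base change, on points. -/
theorem comm_of_bc {T : Scheme.{u}} (t : T ⟶ S) (u : H ⟶ G) [IsMonHom u]
    (hc : ∀ (X : Over T) (g : X ⟶ Red.bc t G) (h : X ⟶ Red.bc t H),
      g * (h ≫ (Over.pullback t).map u) = (h ≫ (Over.pullback t).map u) * g)
    (Y : Over S) (p : Y ⟶ Over.mk t) (g : Y ⟶ G) (h : Y ⟶ H) : g * (h ≫ u) = (h ≫ u) * g := by
  let Y' : Over T := Over.mk p.left
  let e : (Over.map t).obj Y' ≅ Y := Over.isoMk (Iso.refl _) (by
    show 𝟙 _ ≫ Y.hom = p.left ≫ t
    rw [Category.id_comp]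
    exact (Over.w p).symm)
  rw [← cancel_epi e.hom, MonObj.comp_mul, MonObj.comp_mul, ← Category.assoc]
  apply (adjEquiv t G Y').injective
  rw [map_mul, map_mul, adjEquiv_comp (G := G) t u (Y := Y') (e.hom ≫ h)]
  exact hc Y' _ _

/-- A homomorphism central on all fibres is central. -/
theorem central_of_fibres (hH : HasSplitCovers H) [LocallyOfFiniteType G.hom] (u : H ⟶ G) [IsMonHom u]
    (hfib : ∀ (s : S) (Y : Over S) (_ : Y ⟶ Over.mk (S.fromSpecResidueField s)) (g : Y ⟶ G) (h : Y ⟶ H),
      g * (h ≫ u) = (h ≫ u) * g)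
    (Y : Over S) (g : Y ⟶ G) (h : Y ⟶ H) : g * (h ≫ u) = (h ≫ u) * g := by
  have key := act_trivial_of_fibres hH (conjAct u u) (conjAct_act u u)
    (fun Y x => by simp [lift_conjAct, MonObj.one_comp])
    (fun s Y p g x => by rw [lift_conjAct, ← hfib s Y p x g, mul_inv_cancel_right]) Y h g
  rw [lift_conjAct] at key
  exact (mul_inv_eq_iff_eq_mul.1 key).symm

end Groth.Agent.TrivAct
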