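import Groth.Agent.FixedSmooth.CoreAlg
/-!
A grading which is trivial modulo a nilpotent ideal of the base is trivial.
-/

set_option autoImplicit false
set_option backward.isDefEq.respectTransparency false
set_option backward.isDefEq.respectTransparency.types false

universe u

noncomputable section

namespace Groth.Agent.TrivAct

open MonoidAlgebra FixedSmooth

variable {B C : Type u} [CommRing B] [CommRing C] {G : Type} [CommGroup G]

theorem coeff_double (w : MonoidAlgebra C G) (n : G) :
    (((L ((singleOneRingHom : MonoidAlgebra C G →+* MonoidAlgebra (MonoidAlgebra C G) G).comp singleOneRingHom)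
        (of (MonoidAlgebra C G) G *
          ((singleOneRingHom : MonoidAlgebra C G →+* MonoidAlgebra (MonoidAlgebra C G) G).toMonoidHom.comp (of C G)))
        w).coeff n).coeff n) = w.coeff n := by
  classical
  induction w using MonoidAlgebra.induction_linear with
  | zero => simp
  | add a b ha hb => simp only [map_add, coeff_add, Finsupp.add_apply, ha, hb]
  | single k r =>
    simp only [L_single, RingHom.coe_comp, Function.comp_apply, MonoidHom.mul_apply, MonoidHom.coe_comp,
      RingHom.toMonoidHom_eq_coe, MonoidHom.coe_coe, of_apply, singleOneRingHom_apply, single_mul_single, one_mul,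
      mul_one, coeff_single]
    by_cases hk : k = n
    · subst hk; simp
    · simp [Finsupp.single_apply, hk]

/-- A coaction which is trivial modulo a nilpotent ideal of the base is trivial. -/
theorem eq_single_of_mod_nilpotent (i : B →+* C) (J : Ideal B) (hJ : IsNilpotent J)
    (ρ : C →+* MonoidAlgebra C G)
    (hi : ∀ b, ρ (i b) = single 1 (i b))
    (hassoc : ∀ c, mapRingHom G ρ (ρ c) =
      L ((singleOneRingHom : MonoidAlgebra C G →+* MonoidAlgebra (MonoidAlgebra C G) G).comp singleOneRingHom)
        (of (MonoidAlgebra C G) G *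
          ((singleOneRingHom : MonoidAlgebra C G →+* MonoidAlgebra (MonoidAlgebra C G) G).toMonoidHom.comp (of C G)))
        (ρ c))
    (hcounit : ∀ c, L (RingHom.id C) 1 (ρ c) = c)
    (hmod : ∀ c (m : G), m ≠ 1 → (ρ c).coeff m ∈ J.map i) (c : C) : ρ c = single 1 c := by
  classical
  have hidem : ∀ d (m : G), (ρ ((ρ d).coeff m)).coeff m = (ρ d).coeff m := fun d m => by
    have := congrArg (fun z => (z.coeff m).coeff m) (hassoc d)
    simp only [coeff_double] at this
    simpa using this
  have hlin : ∀ b d (m : G), (ρ (i b * d)).coeff m = i b * (ρ d).coeff m := fun b d m => by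
    rw [map_mul, hi, coeff_single_one_mul]
  have hK : ∀ (n : ℕ) (m : G), m ≠ 1 → ∀ d, (ρ d).coeff m ∈ (J ^ n).map i := by
    intro n
    induction n with
    | zero => intro m _ d; simp [Ideal.map_top]
    | succ n ih =>
      intro m hm d
      have key : ∀ y ∈ J.map i, (ρ y).coeff m ∈ (J ^ (n + 1)).map i := fun y hy => by
        refine Submodule.span_induction (p := fun y _ => ∀ z, (ρ (z * y)).coeff m ∈ (J ^ (n + 1)).map i)
          ?_ ?_ ?_ ?_ hy 1 |> (one_mul y ▸ ·)
        · rintro _ ⟨b, hb, rfl⟩ z
          rw [mul_comm, hlin, pow_succ', Ideal.map_mul]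
          exact Ideal.mul_mem_mul (Ideal.mem_map_of_mem i hb) (ih m hm z)
        · intro z; simp
        · intro a b _ _ ha hb z
          rw [mul_add, map_add, coeff_add, Finsupp.add_apply]
          exact add_mem (ha z) (hb z)
        · intro r a _ ha z
          rw [smul_eq_mul, ← mul_assoc]
          exact ha _
      rw [← hidem d m]
      exact key _ (hmod d m hm)
  obtain ⟨N, hN⟩ := hJ
  have hz : ∀ m : G, m ≠ 1 → ∀ d, (ρ d).coeff m = 0 := fun m hm d => by
    have := hK N m hm d
    rwa [hN, Ideal.zero_eq_bot, Ideal.map_bot, Ideal.mem_bot] at this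
  have h1 : ρ c = single 1 ((ρ c).coeff 1) := by
    ext m
    by_cases hm : m = 1
    · subst hm; simp
    · simp [hz m hm c, hm]
  have h2 := hcounit c
  rw [h1] at h2
  simp only [L_single, RingHom.id_apply, MonoidHom.one_apply, mul_one] at h2
  rw [h1, h2]

end Groth.Agent.TrivAct
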