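import Groth.Agent.FixedSmooth.SmoothFixed
import Groth.Agent.TrivAct.Alg
/-!
An action of a split diagonalisable group which is trivial modulo a nilpotent ideal of the base is trivial.
-/

set_option autoImplicit false
set_option backward.isDefEq.respectTransparency false
set_option backward.isDefEq.respectTransparency.types false
set_option linter.style.haveILetI false

universe u

open CategoryTheory CategoryTheory.Limits MonoidalCategory CartesianMonoidalCategory MonObj AlgebraicGeometry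

noncomputable section

namespace Groth.Agent.TrivAct

open FixedSmooth

variable {S : Scheme.{u}} {H G : Over S} [GrpObj H] {U : Scheme.{u}} {b : U ⟶ S} {M : Type} [AddCommGroup M]

theorem aw_eq_of_triv (act : H ⊗ G ⟶ G) (σ : Split H b M) {B : CommRingCat.{u}} (p : Spec B ⟶ U)
    (z : Spec B ⟶ G.left) (hz : z ≫ G.hom = p ≫ b) (χ : Multiplicative M →* B)
    (h : ∀ (g : Over.mk (p ≫ b) ⟶ H) (x : Over.mk (p ≫ b) ⟶ G), lift g x ≫ act = x) :
    Aw σ act p z hz χ = z :=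
  congrArg CommaMorphism.left (h (σ.pt B p χ) (Over.homMk z hz))

theorem act_fixes_chart (act : H ⊗ G ⟶ G)
    (hact : ∀ (X : Over S) (h h' : X ⟶ H) (x : X ⟶ G),
      lift h (lift h' x ≫ act) ≫ act = lift (h * h') x ≫ act)
    (hone : ∀ (X : Over S) (x : X ⟶ G), lift (1 : X ⟶ H) x ≫ act = x)
    (σ : Split H b M) (B : CommRingCat.{u}) (q : Spec B ⟶ U)
    (W : G.left.Opens) [IsAffine (pullback (W.ι ≫ G.hom) (q ≫ b))]
    (J : Ideal B) (hJ : IsNilpotent J)
    (h0 : ∀ {B' : CommRingCat.{u}} (g : B ⟶ B'), J ≤ RingHom.ker g.hom →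
      ∀ (h : Over.mk ((Spec.map g ≫ q) ≫ b) ⟶ H) (x : Over.mk ((Spec.map g ≫ q) ≫ b) ⟶ G), lift h x ≫ act = x)
    (g : Over.mk (q ≫ b) ⟶ H) (x : Over.mk (q ≫ b) ⟶ G) (hx : Set.range x.left ⊆ (W : Set G.left)) :
    lift g x ≫ act = x := by
  let P := pullback (W.ι ≫ G.hom) (q ≫ b)
  let C := Γ(P, ⊤)
  let κ : Spec C ⟶ P := P.isoSpec.inv
  let iC : B ⟶ C := Spec.preimage (κ ≫ pullback.snd (W.ι ≫ G.hom) (q ≫ b))
  have hiC : Spec.map iC = κ ≫ pullback.snd (W.ι ≫ G.hom) (q ≫ b) := Spec.map_preimage _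
  let xW : Spec C ⟶ W.toScheme := κ ≫ pullback.fst (W.ι ≫ G.hom) (q ≫ b)
  let xu : Spec C ⟶ G.left := xW ≫ W.ι
  have hxu : xu ≫ G.hom = (Spec.map iC ≫ q) ≫ b := by
    simp only [xu, xW, hiC, Category.assoc, pullback.condition]
  have hex : ∀ {B' : CommRingCat.{u}} (g : B ⟶ B') (z : Spec B' ⟶ W.toScheme),
      (z ≫ W.ι) ≫ G.hom = (Spec.map g ≫ q) ≫ b → ∃ φ : C ⟶ B', iC ≫ φ = g ∧ Spec.map φ ≫ xW = z := fun {B'} g z hz => by
    let l : Spec B' ⟶ P := pullback.lift z (Spec.map g) (by simpa [Category.assoc] using hz)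
    refine ⟨Spec.preimage (l ≫ P.isoSpec.hom), Spec.map_injective ?_, ?_⟩
    · simp [hiC, κ, l]
    · simp [xW, κ, l]
  have huniq : ∀ {B' : CommRingCat.{u}} (φ ψ : C ⟶ B'), iC ≫ φ = iC ≫ ψ →
      Spec.map φ ≫ xu = Spec.map ψ ≫ xu → φ = ψ := fun {B'} φ ψ h1 h2 => by
    apply Spec.map_injective
    rw [← cancel_mono κ]
    apply pullback.hom_ext
    · rw [← cancel_mono W.ι]
      simpa [xu, xW] using h2
    · have := congrArg Spec.map h1
      simpa [Spec.map_comp, hiC] using this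
  let CM : CommRingCat.{u} := CommRingCat.of (MonoidAlgebra C (Multiplicative M))
  let s1 : C ⟶ CM := CommRingCat.ofHom MonoidAlgebra.singleOneRingHom
  let pp : ∀ {B' : CommRingCat.{u}} (φ : C ⟶ B'), Spec B' ⟶ U := fun φ => Spec.map φ ≫ Spec.map iC ≫ q
  let A : ∀ {B' : CommRingCat.{u}} (φ : C ⟶ B'), (Multiplicative M →* B') → (Spec B' ⟶ G.left) :=
    fun φ χ => Aw σ act (pp φ) (Spec.map φ ≫ xu) (pp_w hxu φ) χ
  let χu : Multiplicative M →* CM := MonoidAlgebra.of C (Multiplicative M)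
  have hppi : ∀ {B' : CommRingCat.{u}} {φ ψ : C ⟶ B'}, iC ≫ φ = iC ≫ ψ → pp φ = pp ψ := fun {B'} φ ψ h => by
    show Spec.map φ ≫ Spec.map iC ≫ q = Spec.map ψ ≫ Spec.map iC ≫ q
    rw [← Category.assoc, ← Spec.map_comp, h, Spec.map_comp, Category.assoc]
  have hppc : ∀ {B' B'' : CommRingCat.{u}} (φ : C ⟶ B') (h : B' ⟶ B''), pp (φ ≫ h) = Spec.map h ≫ pp φ :=
    fun φ h => by simp [pp, Spec.map_comp]
  -- modulo `J` the action on the chart is trivial
  let Q : Ideal CM := J.map (iC ≫ s1).hom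
  obtain ⟨DM, π, hπs, hπker⟩ : ∃ (DM : CommRingCat.{u}) (π : CM ⟶ DM), Function.Surjective π.hom ∧
      RingHom.ker π.hom = Q :=
    ⟨CommRingCat.of (CM ⧸ Q), CommRingCat.ofHom (Ideal.Quotient.mk _), Ideal.Quotient.mk_surjective, Ideal.mk_ker⟩
  have hJπ : J ≤ RingHom.ker (iC ≫ s1 ≫ π).hom := fun r hr => by
    have h1 : (iC ≫ s1).hom r ∈ Q := Ideal.mem_map_of_mem _ hr
    rw [← hπker] at h1
    exact h1
  have hD : Spec.map π ≫ A s1 χu = Spec.map π ≫ Spec.map s1 ≫ xu := by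
    show Spec.map π ≫ Aw σ act _ _ _ _ = _
    rw [Aw_nat]
    refine aw_eq_of_triv act σ _ _ _ _ ?_
    have e : Spec.map π ≫ pp s1 = Spec.map (iC ≫ s1 ≫ π) ≫ q := by simp [pp, Spec.map_comp]
    rw [e]
    exact h0 _ hJπ
  haveI : Surjective (Spec.map π) := by
    refine ⟨fun p => ?_⟩
    have : (p : PrimeSpectrum CM) ∈ Set.range (PrimeSpectrum.comap π.hom) := by
      rw [range_comap_of_surjective _ _ hπs, hπker]
      intro y hy
      obtain ⟨n, hn⟩ : IsNilpotent Q := by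
        obtain ⟨n, hn⟩ := hJ
        exact ⟨n, by rw [← Ideal.map_pow, hn, Ideal.zero_eq_bot, Ideal.map_bot]; rfl⟩
      have h2 := Ideal.pow_mem_pow hy n
      rw [hn, Ideal.zero_eq_bot, Ideal.mem_bot] at h2
      exact p.isPrime.mem_of_pow_mem n (by rw [h2]; exact zero_mem _)
    exact this
  have hrange : Set.range (A s1 χu) ⊆ (W : Set G.left) := by
    rintro _ ⟨p, rfl⟩
    obtain ⟨p', rfl⟩ := (inferInstance : Surjective (Spec.map π)).surj p
    erw [← Scheme.Hom.comp_apply, hD]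
    rw [show Spec.map π ≫ Spec.map s1 ≫ xu = (Spec.map π ≫ Spec.map s1 ≫ xW) ≫ W.ι from by simp [xu],
      Scheme.Hom.comp_apply]
    exact ((Spec.map π ≫ Spec.map s1 ≫ xW) p').2
  obtain ⟨ρ, hρi, hρW⟩ := hex (iC ≫ s1) (IsOpenImmersion.lift W.ι (A s1 χu) (by
      rw [Scheme.Opens.range_ι]; exact hrange)) (by
    rw [IsOpenImmersion.lift_fac, Aw_w]
    simp [pp, Spec.map_comp])
  have hρx : Spec.map ρ ≫ xu = A s1 χu := by
    rw [reassoc_of% hρW, IsOpenImmersion.lift_fac]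
  have hρπ : ρ ≫ π = s1 ≫ π := by
    refine huniq _ _ (by rw [reassoc_of% hρi]) ?_
    rw [Spec.map_comp, Category.assoc, hρx, hD, Spec.map_comp, Category.assoc]
  let Lh : ∀ {B' : CommRingCat.{u}}, (C ⟶ B') → (Multiplicative M →* B') → (CM ⟶ B') :=
    fun φ χ => CommRingCat.ofHom (L φ.hom χ)
  have hs1 : ∀ {B' : CommRingCat.{u}} (φ : C ⟶ B') (χ : Multiplicative M →* B'), s1 ≫ Lh φ χ = φ := fun φ χ =>
    CommRingCat.hom_ext (L_comp_single φ.hom χ)
  have key : ∀ {B' : CommRingCat.{u}} (φ : C ⟶ B') (χ : Multiplicative M →* B'),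
      Spec.map (ρ ≫ Lh φ χ) ≫ xu = A φ χ := fun φ χ => by
    rw [Spec.map_comp, Category.assoc, hρx]
    show Spec.map _ ≫ Aw σ act _ _ _ _ = _
    rw [Aw_nat]
    have : (Lh φ χ).hom.toMonoidHom.comp χu = χ := L_comp_of φ.hom χ
    rw [this]
    apply Aw_congr
    · rw [← hppc, hs1]
    · rw [← Category.assoc, ← Spec.map_comp, hs1]
  have hLi : ∀ {B' : CommRingCat.{u}} (φ : C ⟶ B') (χ : Multiplicative M →* B'), iC ≫ ρ ≫ Lh φ χ = iC ≫ φ :=
    fun φ χ => by rw [reassoc_of% hρi, hs1]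
  let CMM : CommRingCat.{u} := CommRingCat.of (MonoidAlgebra CM (Multiplicative M))
  let s2 : CM ⟶ CMM := CommRingCat.ofHom MonoidAlgebra.singleOneRingHom
  let χ₂ : Multiplicative M →* CMM := MonoidAlgebra.of CM (Multiplicative M)
  let χ₁ : Multiplicative M →* CMM := s2.hom.toMonoidHom.comp χu
  have hassoc : ρ ≫ Lh (ρ ≫ s2) χ₂ = ρ ≫ Lh (s1 ≫ s2) (χ₂ * χ₁) := by
    have hi : iC ≫ ρ ≫ s2 = iC ≫ s1 ≫ s2 := by rw [reassoc_of% hρi]
    refine huniq _ _ (by rw [hLi, hLi, hi]) ?_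
    rw [key, key]
    have h1 : Spec.map (ρ ≫ s2) ≫ xu = A (s1 ≫ s2) χ₁ := by
      rw [Spec.map_comp, Category.assoc, hρx]
      show Spec.map _ ≫ Aw σ act _ _ _ _ = _
      rw [Aw_nat]
      apply Aw_congr
      · rw [hppc]
      · rw [Spec.map_comp, Category.assoc]
    have hA : A (ρ ≫ s2) χ₂ = Aw σ act (pp (s1 ≫ s2)) (A (s1 ≫ s2) χ₁) (Aw_w _ _ _ _ _ _) χ₂ :=
      Aw_congr σ act _ _ _ (hppi hi) h1
    show A (ρ ≫ s2) χ₂ = A (s1 ≫ s2) (χ₂ * χ₁)
    rw [hA]
    show (lift (σ.pt CMM (pp (s1 ≫ s2)) χ₂) (Over.homMk _ _) ≫ act).left = (lift _ _ ≫ act).left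
    rw [map_mul, ← hact]
    rfl
  have hcounit : ρ ≫ Lh (𝟙 C) 1 = 𝟙 C := by
    refine huniq _ _ (by rw [hLi]) ?_
    rw [key]
    show (lift (σ.pt C _ 1) _ ≫ act).left = _
    rw [map_one, hone]
    rfl
  have htriv : ρ = s1 := CommRingCat.hom_ext (RingHom.ext fun c => by
    refine eq_single_of_mod_nilpotent iC.hom J hJ ρ.hom (fun r => congrArg (fun m => m.hom r) hρi) (fun c => ?_)
      (fun c => congrArg (fun m => m.hom c) hcounit) (fun c m hm => ?_) c
    · have := congrArg (fun m => m.hom c) hassoc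
      simp only [CommRingCat.hom_comp, RingHom.comp_apply, Lh, CommRingCat.hom_ofHom] at this
      refine Eq.trans ?_ this
      show _ = L (s2.hom.comp ρ.hom) χ₂ (ρ.hom c)
      exact RingHom.congr_fun (L_single_of (G := Multiplicative M) ρ.hom).symm _
    · have h1 : ρ.hom c - s1.hom c ∈ Q := by
        rw [← hπker, RingHom.mem_ker, map_sub, sub_eq_zero]
        exact congrArg (fun m => m.hom c) hρπ
      let mk := MonoidAlgebra.mapRingHom (Multiplicative M) (Ideal.Quotient.mk (J.map iC.hom))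
      have h2 : Q ≤ RingHom.ker mk := Ideal.map_le_iff_le_comap.2 fun r hr => by
        show mk (MonoidAlgebra.singleOneRingHom (iC.hom r)) = 0
        have : Ideal.Quotient.mk (J.map iC.hom) (iC.hom r) = 0 :=
          Ideal.Quotient.eq_zero_iff_mem.2 (Ideal.mem_map_of_mem _ hr)
        simp [mk, this]
      have h3 := congrArg (fun w => w.coeff m) (RingHom.mem_ker.1 (h2 h1))
      have e1 : mk (s1.hom c) = MonoidAlgebra.single 1 (Ideal.Quotient.mk (J.map iC.hom) c) := by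
        show mk (MonoidAlgebra.single 1 c) = _
        exact MonoidAlgebra.mapRingHom_single _ _ _
      have h4 : (mk (ρ.hom c - s1.hom c)).coeff m = Ideal.Quotient.mk (J.map iC.hom) ((ρ.hom c).coeff m) := by
        rw [map_sub, e1]
        simp [mk, Finsupp.single_apply, Ne.symm hm]
      replace h3 : (mk (ρ.hom c - s1.hom c)).coeff m = 0 := by simpa using h3
      rw [h4] at h3
      exact Ideal.Quotient.eq_zero_iff_mem.1 h3)
  -- evaluate at the point
  obtain ⟨χ, rfl⟩ := (σ.pt B q).surjective g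
  obtain ⟨φ, hφi, hφx⟩ := hex (𝟙 B) (IsOpenImmersion.lift W.ι x.left (by rw [Scheme.Opens.range_ι]; exact hx)) (by
    rw [IsOpenImmersion.lift_fac]
    show x.left ≫ G.hom = _
    rw [Spec.map_id]
    erw [Category.id_comp]
    exact Over.w x)
  have hφxu : Spec.map φ ≫ xu = x.left := by
    rw [reassoc_of% hφx, IsOpenImmersion.lift_fac]
  have hk := key φ χ
  rw [htriv, hs1, hφxu] at hk
  apply Over.OverMorphism.ext
  show (lift (σ.pt B q χ) x ≫ act).left = x.left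
  refine Eq.trans ?_ hk.symm
  exact Aw_congr σ act (z := x.left) (Over.w x) (pp_w hxu φ) χ (by
    show q = Spec.map φ ≫ Spec.map iC ≫ q
    rw [← Category.assoc, ← Spec.map_comp, hφi, Spec.map_id]
    erw [Category.id_comp]) hφxu.symm

end Groth.Agent.TrivAct
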