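import Groth.Agent.TrivAct.Alg
/-!
A grading of an algebra of finite type which is trivial on a fibre is trivial near that fibre.
-/

set_option autoImplicit false
set_option backward.isDefEq.respectTransparency false
set_option backward.isDefEq.respectTransparency.types false

universe u

noncomputable section

namespace Groth.Agent.TrivAct

open MonoidAlgebra FixedSmooth

variable {B C : Type u} [CommRing B] [CommRing C] {G : Type} [CommGroup G]

theorem coeff_double' [DecidableEq G] (w : MonoidAlgebra C G) (n k : G) :
    (((L ((singleOneRingHom : MonoidAlgebra C G →+* MonoidAlgebra (MonoidAlgebra C G) G).comp singleOneRingHom)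
        (of (MonoidAlgebra C G) G *
          ((singleOneRingHom : MonoidAlgebra C G →+* MonoidAlgebra (MonoidAlgebra C G) G).toMonoidHom.comp (of C G)))
        w).coeff n).coeff k) = if n = k then w.coeff n else 0 := by
  induction w using MonoidAlgebra.induction_linear with
  | zero => simp
  | add a b ha hb =>
    simp only [map_add, coeff_add, Finsupp.add_apply, ha, hb]
    split_ifs <;> simp
  | single j r =>
    simp only [L_single, RingHom.coe_comp, Function.comp_apply, MonoidHom.mul_apply, MonoidHom.coe_comp,
      RingHom.toMonoidHom_eq_coe, MonoidHom.coe_coe, of_apply, singleOneRingHom_apply, single_mul_single, one_mul,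
      mul_one, coeff_single]
    by_cases hj : j = n
    · subst hj
      simp [Finsupp.single_apply]
    · simp [Finsupp.single_apply, hj]

theorem L_one_eq_sum (w : MonoidAlgebra C G) :
    L (RingHom.id C) (1 : G →* C) w = w.coeff.sum fun _ c => c := by
  induction w using MonoidAlgebra.induction_linear with
  | zero => simp
  | add a b ha hb => rw [map_add, ha, hb, coeff_add, Finsupp.sum_add_index'] <;> simp
  | single j r => simp

variable (i : B →+* C) (ρ : C →+* MonoidAlgebra C G)

/-- Finitely many elements determine the ring maps out of `C` agreeing on the base. -/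
def FinGen : Prop :=
  ∃ gens : Finset C, ∀ {D : Type u} [CommRing D] (φ ψ : C →+* D), φ.comp i = ψ.comp i → (∀ g ∈ gens, φ g = ψ g) → φ = ψ

theorem finGen_of_finiteType (hft : i.FiniteType) : FinGen i := by
  letI : Algebra B C := i.toAlgebra
  obtain ⟨gens, hgens⟩ : (⊤ : Subalgebra B C).FG := (hft : Algebra.FiniteType B C).out
  refine ⟨gens, fun {D} _ φ ψ hb hg => RingHom.ext fun d => ?_⟩
  have hd : d ∈ Algebra.adjoin B (gens : Set C) := by rw [hgens]; exact Algebra.mem_top
  induction hd using Algebra.adjoin_induction with
  | mem g hg' => exact hg g hg'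
  | algebraMap b => exact RingHom.congr_fun hb b
  | add a b _ _ ha hb => rw [map_add, map_add, ha, hb]
  | mul a b _ _ ha hb => rw [map_mul, map_mul, ha, hb]

/-- A localisation of a finitely generated algebra is finitely generated in this sense. -/
theorem FinGen.of_isLocalization {C' : Type u} [CommRing C'] [Algebra C C'] (hC : FinGen i) (P : Submonoid C)
    [IsLocalization P C'] : FinGen ((algebraMap C C').comp i) := by
  classical
  obtain ⟨gens, hgens⟩ := hC
  refine ⟨gens.image (algebraMap C C'), fun {D} _ φ ψ hb hg => IsLocalization.ringHom_ext P ?_⟩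
  exact hgens _ _ hb fun g hg' => hg _ (Finset.mem_image_of_mem _ hg')

/-- Components of a coaction of an algebra of finite type which vanish on a fibre vanish near it. -/
theorem coeff_eq_zero_at' (hi : ∀ b, ρ (i b) = single 1 (i b))
    (hassoc : ∀ c, mapRingHom G ρ (ρ c) =
      L ((singleOneRingHom : MonoidAlgebra C G →+* MonoidAlgebra (MonoidAlgebra C G) G).comp singleOneRingHom)
        (of (MonoidAlgebra C G) G *
          ((singleOneRingHom : MonoidAlgebra C G →+* MonoidAlgebra (MonoidAlgebra C G) G).toMonoidHom.comp (of C G)))
        (ρ c))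
    (hcounit : ∀ c, L (RingHom.id C) 1 (ρ c) = c) (hgen : FinGen i) (Q : Ideal C) [Q.IsPrime]
    (hmod : ∀ c (m : G), m ≠ 1 →
      algebraMap C (Localization.AtPrime Q) ((ρ c).coeff m) ∈
        ((Q.comap i).map i).map (algebraMap C (Localization.AtPrime Q)))
    (c : C) (m : G) (hm : m ≠ 1) : algebraMap C (Localization.AtPrime Q) ((ρ c).coeff m) = 0 := by
  classical
  obtain ⟨gens, hgens⟩ := hgen
  let T : Finset C := gens.biUnion fun g => ((ρ g).coeff.support.filter (· ≠ 1)).image fun k => (ρ g).coeff k
  let I : Ideal C := Ideal.span (T : Set C)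
  -- the components lie in the ideal of those of the generators
  have hI : ∀ d (k : G), k ≠ 1 → (ρ d).coeff k ∈ I := by
    let φ : C →+* MonoidAlgebra (C ⧸ I) G := (mapRingHom G (Ideal.Quotient.mk I)).comp ρ
    let ψ : C →+* MonoidAlgebra (C ⧸ I) G := singleOneRingHom.comp (Ideal.Quotient.mk I)
    suffices h : ∀ d, φ d = ψ d by
      intro d k hk
      have := congrArg (fun w => w.coeff k) (h d)
      simp [φ, ψ, Finsupp.single_apply, Ne.symm hk] at this
      exact Ideal.Quotient.eq_zero_iff_mem.1 this
    refine RingHom.congr_fun (hgens φ ψ (RingHom.ext fun b => ?_) fun g hg => ?_)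
    · show mapRingHom G _ (ρ (i b)) = single 1 (Ideal.Quotient.mk I (i b))
      rw [hi, mapRingHom_single]
    · 
      have hk : ∀ k : G, k ≠ 1 → Ideal.Quotient.mk I ((ρ g).coeff k) = 0 := fun k hk => by
        by_cases h0 : (ρ g).coeff k = 0
        · rw [h0, map_zero]
        · exact Ideal.Quotient.eq_zero_iff_mem.2 (Ideal.subset_span (Finset.mem_biUnion.2
            ⟨g, hg, Finset.mem_image.2 ⟨k, Finset.mem_filter.2 ⟨Finsupp.mem_support_iff.2 h0, hk⟩, rfl⟩⟩))
      have h1 : φ g = single 1 (Ideal.Quotient.mk I ((ρ g).coeff 1)) := by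
        ext k
        by_cases hk1 : k = 1
        · subst hk1; simp [φ]
        · simp [φ, Finsupp.single_apply, Ne.symm hk1, hk k hk1]
      have h2 := congrArg (L (RingHom.id (C ⧸ I)) 1) h1
      rw [L_single] at h2
      simp only [MonoidHom.one_apply, mul_one, RingHom.id_apply] at h2
      have h3 : L (RingHom.id (C ⧸ I)) 1 (φ g) = Ideal.Quotient.mk I g := by
        conv_rhs => rw [← hcounit g]
        show L (RingHom.id (C ⧸ I)) 1 (mapRingHom G (Ideal.Quotient.mk I) (ρ g)) =
          (Ideal.Quotient.mk I).comp (L (RingHom.id C) 1) (ρ g)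
        rw [comp_L, ← L_map]
        congr 2
      rw [h1, show ψ g = single 1 (Ideal.Quotient.mk I g) from rfl, ← h2, h3]
  let A := Localization.AtPrime Q
  let f : C →+* A := algebraMap C A
  let P : Ideal A := ((Q.comap i).map i).map f
  have hP : P ≤ IsLocalRing.maximalIdeal A := by
    rw [← Localization.AtPrime.map_eq_maximalIdeal]
    exact Ideal.map_mono (Ideal.map_comap_le (f := i))
  let N : Ideal A := I.map f
  have hN : N = ⊥ := by
    refine Submodule.eq_bot_of_le_smul_of_le_jacobson_bot P N ?_ ?_ ?_
    · exact Ideal.FG.map ⟨T, rfl⟩ f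
    · refine Ideal.map_le_iff_le_comap.2 (Ideal.span_le.2 fun e he => ?_)
      obtain ⟨g, hg, he⟩ := Finset.mem_biUnion.1 (Finset.mem_coe.1 he)
      obtain ⟨k, hk, rfl⟩ := Finset.mem_image.1 he
      have hk1 : k ≠ 1 := (Finset.mem_filter.1 hk).2
      let e := (ρ g).coeff k
      have hρe : ρ e = single k e := by
        ext n
        have := congrArg (fun z => (z.coeff k).coeff n) (hassoc g)
        simp only [coeff_double'] at this
        rw [show ((mapRingHom G ρ (ρ g)).coeff k).coeff n = (ρ e).coeff n by simp [e]] at this
        rw [this, coeff_single, Finsupp.single_apply]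
      obtain ⟨t, htQ, hte⟩ : ∃ t, t ∉ Q ∧ t * e ∈ (Q.comap i).map i := by
        have h := hmod g k hk1
        rw [IsLocalization.algebraMap_mem_map_algebraMap_iff Q.primeCompl] at h
        obtain ⟨t, ht, hte⟩ := h
        exact ⟨t, ht, hte⟩
      have key : ∀ y ∈ (Q.comap i).map i, ∀ n : G, n ≠ 1 → f ((ρ y).coeff n) ∈ P * N := by
        intro y hy
        induction hy using Submodule.span_induction with
        | mem y hy =>
          obtain ⟨b, hb, rfl⟩ := hy
          intro n hn
          rw [hi, coeff_single, Finsupp.single_apply, if_neg (Ne.symm hn), map_zero]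
          exact zero_mem _
        | zero => intro n _; simp
        | add a b _ _ ha hb =>
          intro n hn
          rw [map_add, coeff_add, Finsupp.add_apply, map_add]
          exact add_mem (ha n hn) (hb n hn)
        | smul r a ha' ha =>
          intro n hn
          rw [smul_eq_mul]
          clear ha
          induction ha' using Submodule.span_induction generalizing r with
          | mem a ha' =>
            obtain ⟨b, hb, rfl⟩ := ha'
            rw [mul_comm r, map_mul, hi, coeff_single_one_mul, map_mul]
            exact Ideal.mul_mem_mul (Ideal.mem_map_of_mem _ (Ideal.mem_map_of_mem _ hb))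
              (Ideal.mem_map_of_mem _ (hI r n hn))
          | zero => simp
          | add a b _ _ ha hb =>
            rw [mul_add, map_add, coeff_add, Finsupp.add_apply, map_add]
            exact add_mem (ha r) (hb r)
          | smul s a _ ha =>
            rw [smul_eq_mul, ← mul_assoc]
            exact ha _
      have h1 := key _ hte k hk1
      rw [map_mul, hρe, coeff_mul_single_eq_coeff_mul (m₂ := 1) fun a _ => by simp] at h1
      rw [map_mul] at h1
      have hu : IsUnit (f ((ρ t).coeff 1)) := by
        refine IsLocalization.map_units A (⟨_, ?_⟩ : Q.primeCompl)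
        show (ρ t).coeff 1 ∉ Q
        intro h0
        refine htQ ?_
        rw [← hcounit t, L_one_eq_sum]
        refine Ideal.sum_mem _ fun n _ => ?_
        show (ρ t).coeff n ∈ Q
        by_cases hn : n = 1
        · rw [hn]; exact h0
        · exact (IsLocalization.AtPrime.to_map_mem_maximal_iff A Q _ inferInstance).1 (hP (hmod t n hn))
      exact (Ideal.unit_mul_mem_iff_mem _ hu).1 h1
    · rw [IsLocalRing.jacobson_eq_maximalIdeal _ bot_ne_top]
      exact hP
  have := Ideal.mem_map_of_mem f (hI c m hm)
  rw [show I.map f = N from rfl, hN, Ideal.mem_bot] at this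
  exact this

/-- A coaction on an algebra of finite type which is trivial on all fibres is trivial. -/
theorem eq_single_of_fibres (hi : ∀ b, ρ (i b) = single 1 (i b))
    (hassoc : ∀ c, mapRingHom G ρ (ρ c) =
      L ((singleOneRingHom : MonoidAlgebra C G →+* MonoidAlgebra (MonoidAlgebra C G) G).comp singleOneRingHom)
        (of (MonoidAlgebra C G) G *
          ((singleOneRingHom : MonoidAlgebra C G →+* MonoidAlgebra (MonoidAlgebra C G) G).toMonoidHom.comp (of C G)))
        (ρ c))
    (hcounit : ∀ c, L (RingHom.id C) 1 (ρ c) = c) (hft : i.FiniteType)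
    (hmod : ∀ (Q : Ideal C) [Q.IsPrime] c (m : G), m ≠ 1 →
      algebraMap C (Localization.AtPrime Q) ((ρ c).coeff m) ∈
        ((Q.comap i).map i).map (algebraMap C (Localization.AtPrime Q)))
    (c : C) : ρ c = single 1 c := by
  classical
  have hz : ∀ m : G, m ≠ 1 → (ρ c).coeff m = 0 := fun m hm => by
    refine eq_zero_of_localization _ fun P hP => ?_
    haveI := hP.isPrime
    exact coeff_eq_zero_at' i ρ hi hassoc hcounit (finGen_of_finiteType i hft) P (fun c m hm => hmod P c m hm) c m hm
  have h1 : ρ c = single 1 ((ρ c).coeff 1) := by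
    ext m
    by_cases hm : m = 1
    · subst hm; simp
    · simp [hz m hm, hm]
  have h2 := hcounit c
  rw [h1] at h2
  simp only [L_single, RingHom.id_apply, MonoidHom.one_apply, mul_one] at h2
  rw [h1, h2]

end Groth.Agent.TrivAct
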