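import Mathlib
import Groth.Agent.FixedSmooth.CoreAlg
/-!
The torsion subgroups of a split group of finite type are schematically dense, uniformly in the base.
-/

set_option autoImplicit false
set_option backward.isDefEq.respectTransparency false
set_option backward.isDefEq.respectTransparency.types false
set_option linter.style.haveILetI false

universe u

open CategoryTheory CategoryTheory.Limits AlgebraicGeometry

noncomputable section

namespace Groth.Agent.TrivAct

/-- A finitely generated abelian group is residually finite, with explicit finite levels. -/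
theorem exists_sep (M : Type) [AddCommGroup M] [AddGroup.FG M] (s : Finset M) :
    ∃ n : ℕ, n ≠ 0 ∧ ∀ a ∈ s, ∀ b ∈ s, (∃ c : M, a = b + n • c) → a = b := by
  classical
  obtain ⟨r, ι, hι, p, hp, e, ⟨f⟩⟩ := AddCommGroup.equiv_free_prod_directSum_zmod M
  let N : ℕ := ∏ i : ι, p i ^ e i
  have hN : N ≠ 0 := Finset.prod_ne_zero_iff.2 fun i _ => pow_ne_zero _ (hp i).ne_zero
  let B : ℕ := 1 + ∑ a ∈ s, ∑ b ∈ s, ∑ j : Fin r, ((f (a - b)).1 j).natAbs
  refine ⟨N * B, Nat.mul_ne_zero hN (by simp [B]), fun a ha b hb ⟨c, hc⟩ => ?_⟩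
  have hd : f (a - b) = (N * B) • f c := by rw [hc, add_sub_cancel_left, map_nsmul]
  have h2 : (f (a - b)).2 = 0 := by
    rw [hd]
    refine DFinsupp.ext fun i => ?_
    show (N * B) • (f c).2 i = 0
    rw [nsmul_eq_mul]
    refine mul_eq_zero_of_left ?_ _
    rw [ZMod.natCast_eq_zero_iff]
    exact (Finset.dvd_prod_of_mem _ (Finset.mem_univ i)).mul_right B
  have h1 : (f (a - b)).1 = 0 := by
    ext j
    by_contra hne
    have hdvd : ((N * B : ℕ) : ℤ) ∣ (f (a - b)).1 j := ⟨(f c).1 j, by
      rw [hd]; simp [nsmul_eq_mul]⟩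
    have hle := Int.natAbs_dvd_natAbs.2 hdvd
    rw [Int.natAbs_natCast] at hle
    have h3 := Nat.le_of_dvd (Nat.pos_of_ne_zero (by simpa using hne)) hle
    have h4 : ((f (a - b)).1 j).natAbs < B := by
      have := Finset.single_le_sum (f := fun a => ∑ b ∈ s, ∑ j : Fin r, ((f (a - b)).1 j).natAbs)
        (fun _ _ => Nat.zero_le _) ha
      have h5 := Finset.single_le_sum (f := fun b => ∑ j : Fin r, ((f (a - b)).1 j).natAbs)
        (fun _ _ => Nat.zero_le _) hb
      have h6 := Finset.single_le_sum (f := fun j : Fin r => ((f (a - b)).1 j).natAbs)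
        (fun _ _ => Nat.zero_le _) (Finset.mem_univ j)
      simp only [B] at *
      omega
    have h7 : B ≤ N * B := Nat.le_mul_of_pos_left B (Nat.pos_of_ne_zero hN)
    omega
  have h0 : f (a - b) = f 0 := by rw [map_zero]; exact Prod.ext h1 h2
  exact sub_eq_zero.1 (f.injective h0)

/-- An element of a group algebra killed in all finite levels vanishes. -/
theorem eq_zero_of_levels {D : Type u} [CommRing D] (M : Type) [AddCommGroup M] [AddGroup.FG M]
    (w : MonoidAlgebra D (Multiplicative M))
    (h : ∀ (T : Type) [CommGroup T], Monoid.IsTorsion T → ∀ π₀ : Multiplicative M →* T,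
      MonoidAlgebra.mapDomainRingHom D π₀ w = 0) : w = 0 := by
  classical
  let s : Finset M := insert 0 (w.coeff.support.image Multiplicative.toAdd)
  obtain ⟨n, hn, hsep⟩ := exists_sep M s
  let K : Subgroup (Multiplicative M) := (powMonoidHom n : Multiplicative M →* Multiplicative M).range
  have hT : Monoid.IsTorsion (Multiplicative M ⧸ K) := fun t => by
    obtain ⟨m, rfl⟩ := QuotientGroup.mk_surjective t
    refine isOfFinOrder_iff_pow_eq_one.2 ⟨n, Nat.pos_of_ne_zero hn, ?_⟩
    rw [← QuotientGroup.mk_pow, QuotientGroup.eq_one_iff]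
    exact ⟨m, rfl⟩
  have hw := h (Multiplicative M ⧸ K) hT (QuotientGroup.mk' K)
  ext m
  show w.coeff m = 0
  by_contra hm
  have hinj : Set.InjOn (QuotientGroup.mk' K) (w.coeff.support : Set (Multiplicative M)) := fun a ha b hb hab => by
    obtain ⟨c, hc⟩ := (QuotientGroup.eq.1 hab : a⁻¹ * b ∈ K)
    have := hsep (Multiplicative.toAdd b) (Finset.mem_insert_of_mem (Finset.mem_image_of_mem _ hb))
      (Multiplicative.toAdd a) (Finset.mem_insert_of_mem (Finset.mem_image_of_mem _ ha))
      ⟨Multiplicative.toAdd c, by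
        have hc' : b = a * c ^ n := by
          rw [show c ^ n = a⁻¹ * b from hc, mul_inv_cancel_left]
        rw [hc', toAdd_mul, toAdd_pow]⟩
    exact (Multiplicative.toAdd.injective this).symm
  have hm' := congrArg (fun z => z.coeff (QuotientGroup.mk' K m)) hw
  change Finsupp.mapDomain (QuotientGroup.mk' K) w.coeff (QuotientGroup.mk' K m) = 0 at hm'
  rw [Finsupp.mapDomain_apply' _ _ (subset_refl _) hinj (Finsupp.mem_support_iff.2 hm)] at hm'
  exact hm hm'

/-- Maps into a separated scheme which agree on all finite levels are equal. -/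
theorem eq_of_levels {D : CommRingCat.{u}} (M : Type) [AddCommGroup M] [AddGroup.FG M] {S : Scheme.{u}} {Y : Over S}
    [IsSeparated Y.hom] {p : Spec (CommRingCat.of (MonoidAlgebra D (Multiplicative M))) ⟶ S}
    (a b : Over.mk p ⟶ Y)
    (h : ∀ (T : Type) [CommGroup T], Monoid.IsTorsion T → ∀ π₀ : Multiplicative M →* T,
      Spec.map (CommRingCat.ofHom (MonoidAlgebra.mapDomainRingHom D π₀)) ≫ a.left =
        Spec.map (CommRingCat.ofHom (MonoidAlgebra.mapDomainRingHom D π₀)) ≫ b.left) : a = b := by
  haveI hcl : IsClosedImmersion (equalizer.ι a b).left := inferInstance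
  obtain ⟨I, e, he⟩ := IsClosedImmersion.Spec_iff.1 hcl
  have hI : I = ⊥ := by
    refine (Submodule.eq_bot_iff _).2 fun w hw => eq_zero_of_levels M w fun T _ hT π₀ => ?_
    let g := Spec.map (CommRingCat.ofHom (MonoidAlgebra.mapDomainRingHom D π₀))
    let k : Over.mk (g ≫ p) ⟶ Over.mk p := Over.homMk g rfl
    let l := equalizer.lift k (Over.OverMorphism.ext (h T hT π₀) : k ≫ a = k ≫ b)
    obtain ⟨ψ, hψ⟩ := Spec.map_surjective (l.left ≫ e.hom)
    have hfac : CommRingCat.ofHom (Ideal.Quotient.mk I) ≫ ψ = CommRingCat.ofHom (MonoidAlgebra.mapDomainRingHom D π₀) :=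
      Spec.map_injective (by
        rw [Spec.map_comp, hψ, Category.assoc, ← he]
        exact congrArg CommaMorphism.left (equalizer.lift_ι k _))
    have := congrArg (fun m => m.hom w) hfac
    simp only [CommRingCat.hom_comp, RingHom.comp_apply, CommRingCat.hom_ofHom] at this
    rw [Ideal.Quotient.eq_zero_iff_mem.2 hw, map_zero] at this
    exact this.symm
  haveI : IsIso (equalizer.ι a b).left := by
    rw [he]
    haveI : IsIso (CommRingCat.ofHom (Ideal.Quotient.mk I)) := by
      rw [ConcreteCategory.isIso_iff_bijective]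
      exact ⟨(RingHom.injective_iff_ker_eq_bot _).2 (Ideal.mk_ker.trans hI), Ideal.Quotient.mk_surjective⟩
    infer_instance
  apply Over.OverMorphism.ext
  rw [← cancel_epi (equalizer.ι a b).left]
  exact congrArg CommaMorphism.left (equalizer.condition a b)

end Groth.Agent.TrivAct
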