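import Groth.Agent.TrivAct.Chart
import Groth.Agent.TrivAct.FibreAlg
/-!
An action of a split group which is trivial on the fibre through a point is trivial, on torsion characters, over the
local ring of that point.
-/

set_option autoImplicit false
set_option backward.isDefEq.respectTransparency false
set_option backward.isDefEq.respectTransparency.types false
set_option linter.style.haveILetI false

universe u

open CategoryTheory CategoryTheory.Limits MonoidalCategory CartesianMonoidalCategory MonObj AlgebraicGeometry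

noncomputable section

namespace Groth.Agent.TrivAct

open FixedSmooth

theorem isIntegral_singleOne {C : Type u} [CommRing C] {T : Type} [CommGroup T] (hT : Monoid.IsTorsion T) :
    (MonoidAlgebra.singleOneRingHom : C →+* MonoidAlgebra C T).IsIntegral := fun w => by
  induction w using MonoidAlgebra.induction_linear with
  | zero => exact RingHom.isIntegralElem_zero _
  | add a b ha hb => exact RingHom.IsIntegralElem.add _ ha hb
  | single t r =>
    have e : MonoidAlgebra.single t r = MonoidAlgebra.singleOneRingHom r * MonoidAlgebra.single t 1 := by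
      simp
    rw [e]
    refine RingHom.IsIntegralElem.mul _ (RingHom.isIntegralElem_map _) ?_
    obtain ⟨n, hn, ht⟩ := isOfFinOrder_iff_pow_eq_one.1 (hT t)
    refine ⟨Polynomial.X ^ n - Polynomial.C 1, Polynomial.monic_X_pow_sub_C _ hn.ne', ?_⟩
    simp [MonoidAlgebra.single_pow, ht, MonoidAlgebra.one_def]

variable {S : Scheme.{u}} {H G : Over S} [GrpObj H] {U : Scheme.{u}} {b : U ⟶ S} {M : Type} [AddCommGroup M]

/-- Trivial on the fibre through `x`, hence trivial on torsion characters over the local ring of `x`. -/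
theorem exists_local_torsion_trivial [LocallyOfFiniteType G.hom] (act : H ⊗ G ⟶ G)
    (hact : ∀ (X : Over S) (h h' : X ⟶ H) (x : X ⟶ G),
      lift h (lift h' x ≫ act) ≫ act = lift (h * h') x ≫ act)
    (hone : ∀ (X : Over S) (x : X ⟶ G), lift (1 : X ⟶ H) x ≫ act = x)
    (σ : Split H b M) (A : CommRingCat.{u}) (q : Spec A ⟶ U) (x : ↥(pullback G.hom (q ≫ b)))
    (h0 : ∀ {B' : CommRingCat.{u}} (g : A ⟶ B'),
      (pullback.snd G.hom (q ≫ b) x : PrimeSpectrum A).asIdeal ≤ RingHom.ker g.hom →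
      (∀ r, r ∉ (pullback.snd G.hom (q ≫ b) x : PrimeSpectrum A).asIdeal → IsUnit (g.hom r)) →
      ∀ (h : Over.mk ((Spec.map g ≫ q) ≫ b) ⟶ H) (y : Over.mk ((Spec.map g ≫ q) ≫ b) ⟶ G), lift h y ≫ act = y) :
    ∃ (C : CommRingCat.{u}) (iC : A ⟶ C) (xP : Spec C ⟶ pullback G.hom (q ≫ b)),
      xP ≫ pullback.snd _ _ = Spec.map iC ∧ (∀ y, y ⤳ x → y ∈ Set.range xP) ∧
      (∀ (B' : CommRingCat.{u}) (z : Spec B' ⟶ pullback G.hom (q ≫ b)), (∀ y, z y ⤳ x) →
        ∃ φ : C ⟶ B', Spec.map φ ≫ xP = z) ∧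
      ∀ (T : Type) [CommGroup T], Monoid.IsTorsion T → ∀ (π₀ : Multiplicative M →* T)
        (B' : CommRingCat.{u}) (φ : C ⟶ B') (χ' : T →* B'),
        ∀ (hz : (Spec.map φ ≫ xP ≫ pullback.fst _ _) ≫ G.hom = (Spec.map (iC ≫ φ) ≫ q) ≫ b),
          Aw σ act (Spec.map (iC ≫ φ) ≫ q) (Spec.map φ ≫ xP ≫ pullback.fst _ _) hz (χ'.comp π₀) =
            Spec.map φ ≫ xP ≫ pullback.fst _ _ := by
  let P := pullback G.hom (q ≫ b)
  obtain ⟨W, hW, hxW, -⟩ := exists_isAffineOpen_mem_and_subset (x := x) (U := ⊤) trivial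
  let C₀ := Γ(P, W)
  let i₀ : A ⟶ C₀ := Spec.preimage (hW.fromSpec ≫ pullback.snd G.hom (q ≫ b))
  have hi₀ : Spec.map i₀ = hW.fromSpec ≫ pullback.snd G.hom (q ≫ b) := Spec.map_preimage _
  obtain ⟨qp, hqp⟩ : x ∈ Set.range hW.fromSpec := by rw [hW.range_fromSpec]; exact hxW
  let 𝔮 : Ideal C₀ := (qp : PrimeSpectrum C₀).asIdeal
  let C : CommRingCat.{u} := CommRingCat.of (Localization.AtPrime 𝔮)
  let ℓ : C₀ ⟶ C := CommRingCat.ofHom (algebraMap C₀ (Localization.AtPrime 𝔮))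
  let iC : A ⟶ C := i₀ ≫ ℓ
  let xP : Spec C ⟶ P := Spec.map ℓ ≫ hW.fromSpec
  let xu : Spec C ⟶ G.left := xP ≫ pullback.fst G.hom (q ≫ b)
  have hxP : xP ≫ pullback.snd G.hom (q ≫ b) = Spec.map iC := by
    show (Spec.map ℓ ≫ hW.fromSpec) ≫ _ = Spec.map (i₀ ≫ ℓ)
    rw [Spec.map_comp, hi₀, Category.assoc]
  haveI : IsPreimmersion (Spec.map ℓ) := IsPreimmersion.of_isLocalization (R := C₀) (S := Localization.AtPrime 𝔮) 𝔮.primeCompl
  haveI : Mono xP := mono_comp _ _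
  have hrange : ∀ y, y ⤳ x → y ∈ Set.range xP := fun y hy => by
    obtain ⟨yp, rfl⟩ : y ∈ Set.range hW.fromSpec := by
      rw [hW.range_fromSpec]
      exact hy.mem_open W.2 hxW
    rw [← hqp] at hy
    have hs : (yp : Spec C₀) ⤳ qp := hW.fromSpec.isOpenEmbedding.isInducing.specializes_iff.1 hy
    have hle : (yp : PrimeSpectrum C₀).asIdeal ≤ 𝔮 :=
      (PrimeSpectrum.le_iff_specializes (yp : PrimeSpectrum C₀) (qp : PrimeSpectrum C₀)).2 hs
    obtain ⟨z, hz⟩ : yp ∈ Set.range (Spec.map ℓ) := by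
      have : (yp : PrimeSpectrum C₀) ∈ Set.range (PrimeSpectrum.comap (algebraMap C₀ (Localization.AtPrime 𝔮))) := by
        rw [PrimeSpectrum.localization_comap_range (Localization.AtPrime 𝔮) 𝔮.primeCompl]
        exact Set.disjoint_left.2 fun r hr hr' => hr (hle hr')
      exact this
    exact ⟨z, by show (Spec.map ℓ ≫ hW.fromSpec) z = _; rw [Scheme.Hom.comp_apply, hz]⟩
  have hfactor : ∀ (B' : CommRingCat.{u}) (z : Spec B' ⟶ P), (∀ y, z y ⤳ x) →
      ∃ φ : C ⟶ B', Spec.map φ ≫ xP = z := fun B' z hgen => by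
    obtain ⟨φ₀, hφ₀⟩ : ∃ φ₀ : C₀ ⟶ B', Spec.map φ₀ ≫ hW.fromSpec = z := by
      refine ⟨Spec.preimage (IsOpenImmersion.lift hW.fromSpec z ?_), by
        rw [Spec.map_preimage, IsOpenImmersion.lift_fac]⟩
      rw [hW.range_fromSpec]
      rintro _ ⟨y, rfl⟩
      exact (hgen y).mem_open W.2 hxW
    have hu : ∀ r : 𝔮.primeCompl, IsUnit (φ₀.hom r) := fun r => by
      by_contra hr
      obtain ⟨𝔪, h𝔪, hr𝔪⟩ := exists_max_ideal_of_mem_nonunits hr
      have h1 : hW.fromSpec (Spec.map φ₀ (⟨𝔪, h𝔪.isPrime⟩ : PrimeSpectrum B')) ⤳ hW.fromSpec qp := by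
        rw [hqp, ← Scheme.Hom.comp_apply, hφ₀]
        exact hgen _
      exact r.2 (((PrimeSpectrum.le_iff_specializes _ _).2
        (hW.fromSpec.isOpenEmbedding.isInducing.specializes_iff.1 h1)) hr𝔪)
    let ρ : C ⟶ B' := CommRingCat.ofHom (IsLocalization.lift (M := 𝔮.primeCompl) (S := Localization.AtPrime 𝔮) hu)
    have hℓρ : ℓ ≫ ρ = φ₀ := CommRingCat.hom_ext (IsLocalization.lift_comp _)
    refine ⟨ρ, ?_⟩
    show Spec.map ρ ≫ Spec.map ℓ ≫ hW.fromSpec = z
    rw [← Category.assoc, ← Spec.map_comp, hℓρ, hφ₀]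
  refine ⟨C, iC, xP, hxP, hrange, hfactor, fun T _ hT π₀ B' φ χ' hz => ?_⟩
  have hxu : xu ≫ G.hom = (Spec.map iC ≫ q) ≫ b := by
    show (xP ≫ pullback.fst G.hom (q ≫ b)) ≫ G.hom = _
    rw [Category.assoc, pullback.condition, reassoc_of% hxP, Category.assoc]
  have huniq : ∀ {B' : CommRingCat.{u}} (φ ψ : C ⟶ B'), iC ≫ φ = iC ≫ ψ →
      Spec.map φ ≫ xu = Spec.map ψ ≫ xu → φ = ψ := fun {B'} φ ψ h1 h2 => by
    apply Spec.map_injective
    rw [← cancel_mono xP]
    apply pullback.hom_ext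
    · simpa [xu] using h2
    · have := congrArg Spec.map h1
      simpa [Spec.map_comp, ← hxP] using this
  let CT : CommRingCat.{u} := CommRingCat.of (MonoidAlgebra C T)
  let s1 : C ⟶ CT := CommRingCat.ofHom MonoidAlgebra.singleOneRingHom
  let χu : Multiplicative M →* CT := (MonoidAlgebra.of C T).comp π₀
  let pp : ∀ {B' : CommRingCat.{u}} (φ : C ⟶ B'), Spec B' ⟶ U := fun φ => Spec.map φ ≫ Spec.map iC ≫ q
  let AW : ∀ {B' : CommRingCat.{u}} (φ : C ⟶ B'), (Multiplicative M →* B') → (Spec B' ⟶ G.left) :=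
    fun φ χ => Aw σ act (pp φ) (Spec.map φ ≫ xu) (pp_w hxu φ) χ
  have hppi : ∀ {B' : CommRingCat.{u}} {φ ψ : C ⟶ B'}, iC ≫ φ = iC ≫ ψ → pp φ = pp ψ := fun {B'} φ ψ h => by
    show Spec.map φ ≫ Spec.map iC ≫ q = Spec.map ψ ≫ Spec.map iC ≫ q
    rw [← Category.assoc, ← Spec.map_comp, h, Spec.map_comp, Category.assoc]
  have hppc : ∀ {B' B'' : CommRingCat.{u}} (φ : C ⟶ B') (h : B' ⟶ B''), pp (φ ≫ h) = Spec.map h ≫ pp φ :=
    fun φ h => by simp [pp, Spec.map_comp]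
  let 𝔭 : Ideal A := (pullback.snd G.hom (q ≫ b) x : PrimeSpectrum A).asIdeal
  haveI h𝔭 : 𝔭.IsPrime := (pullback.snd G.hom (q ≫ b) x : PrimeSpectrum A).isPrime
  have h𝔭q : 𝔭 = 𝔮.comap i₀.hom := by
    show (pullback.snd G.hom (q ≫ b) x : PrimeSpectrum A).asIdeal = _
    rw [← hqp, ← Scheme.Hom.comp_apply, ← hi₀]
    rfl
  have hD : ∀ {B' : CommRingCat.{u}} (π : CT ⟶ B'), 𝔭 ≤ RingHom.ker (iC ≫ s1 ≫ π).hom →
      (∀ r, r ∉ 𝔭 → IsUnit ((iC ≫ s1 ≫ π).hom r)) →
      Spec.map π ≫ AW s1 χu = Spec.map π ≫ Spec.map s1 ≫ xu := fun {B'} π h1 h2 => by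
    show Spec.map π ≫ Aw σ act _ _ _ _ = _
    rw [Aw_nat]
    refine aw_eq_of_triv act σ _ _ _ _ ?_
    have e : Spec.map π ≫ pp s1 = Spec.map (iC ≫ s1 ≫ π) ≫ q := by simp [pp, Spec.map_comp]
    rw [e]
    exact h0 _ h1 h2
  -- the universal translate lands in the local scheme
  let z : Spec CT ⟶ P := pullback.lift (AW s1 χu) (Spec.map (iC ≫ s1)) (by
    rw [Aw_w]
    simp [pp, Spec.map_comp])
  have hz₀ : ∀ (y : PrimeSpectrum CT), y.asIdeal.IsMaximal → z y = x := fun y hy => by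
    let π : CT ⟶ CommRingCat.of y.asIdeal.ResidueField := CommRingCat.ofHom (algebraMap CT y.asIdeal.ResidueField)
    obtain ⟨y', hy'⟩ : (y : Spec CT) ∈ Set.range (Spec.map π) := by
      refine ⟨(⟨⊥, Ideal.isPrime_bot⟩ : PrimeSpectrum y.asIdeal.ResidueField), PrimeSpectrum.ext ?_⟩
      exact Ideal.ker_algebraMap_residueField y.asIdeal
    have hmax : y.asIdeal.comap s1.hom = IsLocalRing.maximalIdeal (Localization.AtPrime 𝔮) :=
      IsLocalRing.eq_maximalIdeal (Ideal.isMaximal_comap_of_isIntegral_of_isMaximal' _ (isIntegral_singleOne hT) _)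
    have hs1 : (Spec.map s1 y : PrimeSpectrum C) = IsLocalRing.closedPoint (Localization.AtPrime 𝔮) :=
      PrimeSpectrum.ext hmax
    have hA : y.asIdeal.comap (iC ≫ s1).hom = 𝔭 := by
      show (y.asIdeal.comap s1.hom).comap (ℓ.hom.comp i₀.hom) = _
      rw [hmax, h𝔭q, ← Ideal.comap_comap]
      congr 1
      exact Localization.AtPrime.comap_maximalIdeal
    have hD' := hD π (fun r hr => RingHom.mem_ker.2 (Ideal.algebraMap_residueField_eq_zero.2 (by
        rw [← hA] at hr; exact hr)))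
      (fun r hr => IsUnit.mk0 _ (mt Ideal.algebraMap_residueField_eq_zero.1 (by rw [← hA] at hr; exact hr)))
    have e : Spec.map π ≫ z = Spec.map π ≫ Spec.map s1 ≫ xP := by
      apply pullback.hom_ext
      · simp only [z, Category.assoc, pullback.lift_fst]
        exact hD'
      · simp only [z, Category.assoc, pullback.lift_snd, hxP, Spec.map_comp]
    rw [← hy', ← Scheme.Hom.comp_apply, e]
    simp only [Scheme.Hom.comp_apply]
    rw [hy']
    show (Spec.map ℓ ≫ hW.fromSpec) (Spec.map s1 (y : Spec CT)) = x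
    rw [show (Spec.map s1 (y : Spec CT)) = (IsLocalRing.closedPoint (Localization.AtPrime 𝔮) : Spec C) from hs1,
      Scheme.Hom.comp_apply, ← hqp]
    congr 1
    exact PrimeSpectrum.ext Localization.AtPrime.comap_maximalIdeal
  have hgen : ∀ y : PrimeSpectrum CT, z y ⤳ x := fun y => by
    obtain ⟨𝔪, h𝔪, hle⟩ := Ideal.exists_le_maximal y.asIdeal y.isPrime.ne_top
    rw [← hz₀ ⟨𝔪, h𝔪.isPrime⟩ h𝔪]
    exact ((PrimeSpectrum.le_iff_specializes y ⟨𝔪, h𝔪.isPrime⟩).1 hle).map z.continuous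
  obtain ⟨ρ, hρP⟩ := hfactor CT z hgen
  have hρi : iC ≫ ρ = iC ≫ s1 := Spec.map_injective (by
    rw [Spec.map_comp, ← hxP, ← Category.assoc, hρP, pullback.lift_snd, Spec.map_comp])
  have hρx : Spec.map ρ ≫ xu = AW s1 χu := by
    show Spec.map ρ ≫ xP ≫ _ = _
    rw [← Category.assoc, hρP, pullback.lift_fst]
  let Lh : ∀ {B' : CommRingCat.{u}}, (C ⟶ B') → (T →* B') → (CT ⟶ B') :=
    fun φ χ => CommRingCat.ofHom (L φ.hom χ)
  have hs1 : ∀ {B' : CommRingCat.{u}} (φ : C ⟶ B') (χ : T →* B'), s1 ≫ Lh φ χ = φ := fun φ χ =>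
    CommRingCat.hom_ext (L_comp_single φ.hom χ)
  have key : ∀ {B' : CommRingCat.{u}} (φ : C ⟶ B') (χ : T →* B'),
      Spec.map (ρ ≫ Lh φ χ) ≫ xu = AW φ (χ.comp π₀) := fun φ χ => by
    rw [Spec.map_comp, Category.assoc, hρx]
    show Spec.map _ ≫ Aw σ act _ _ _ _ = _
    rw [Aw_nat]
    have : (Lh φ χ).hom.toMonoidHom.comp χu = χ.comp π₀ := by
      show ((L φ.hom χ).toMonoidHom.comp (MonoidAlgebra.of C T)).comp π₀ = _
      rw [L_comp_of]
    rw [this]
    apply Aw_congr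
    · rw [← hppc, hs1]
    · rw [← Category.assoc, ← Spec.map_comp, hs1]
  have hLi : ∀ {B' : CommRingCat.{u}} (φ : C ⟶ B') (χ : T →* B'), iC ≫ ρ ≫ Lh φ χ = iC ≫ φ :=
    fun φ χ => by rw [reassoc_of% hρi, hs1]
  let CTT : CommRingCat.{u} := CommRingCat.of (MonoidAlgebra CT T)
  let s2 : CT ⟶ CTT := CommRingCat.ofHom MonoidAlgebra.singleOneRingHom
  letI : CommRing CTT := CTT.commRing
  let χ₂ : T →* CTT := MonoidAlgebra.of CT T
  let χ₁ : T →* CTT := s2.hom.toMonoidHom.comp (MonoidAlgebra.of C T)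
  have hassoc : ρ ≫ Lh (ρ ≫ s2) χ₂ = ρ ≫ Lh (s1 ≫ s2) (χ₂ * χ₁) := by
    have hi : iC ≫ ρ ≫ s2 = iC ≫ s1 ≫ s2 := by rw [reassoc_of% hρi]
    refine huniq _ _ (by rw [hLi, hLi, hi]) ?_
    rw [key, key]
    have h1 : Spec.map (ρ ≫ s2) ≫ xu = AW (s1 ≫ s2) (χ₁.comp π₀) := by
      rw [Spec.map_comp, Category.assoc, hρx]
      show Spec.map _ ≫ Aw σ act _ _ _ _ = _
      rw [Aw_nat]
      apply Aw_congr
      · rw [hppc]
      · rw [Spec.map_comp, Category.assoc]
    have hA : AW (ρ ≫ s2) (χ₂.comp π₀) =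
        Aw σ act (pp (s1 ≫ s2)) (AW (s1 ≫ s2) (χ₁.comp π₀)) (Aw_w _ _ _ _ _ _) (χ₂.comp π₀) :=
      Aw_congr σ act _ _ _ (hppi hi) h1
    show AW (ρ ≫ s2) (χ₂.comp π₀) = AW (s1 ≫ s2) ((χ₂ * χ₁).comp π₀)
    rw [hA, MonoidHom.mul_comp]
    show (lift (σ.pt CTT (pp (s1 ≫ s2)) (χ₂.comp π₀)) (Over.homMk _ _) ≫ act).left = (lift _ _ ≫ act).left
    rw [map_mul, ← hact]
    rfl
  have hcounit : ρ ≫ Lh (𝟙 C) 1 = 𝟙 C := by
    refine huniq _ _ (by rw [hLi]) ?_
    rw [key, MonoidHom.one_comp]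
    show (lift (σ.pt C _ 1) _ ≫ act).left = _
    rw [map_one, hone]
    rfl
  -- triviality over the fibre
  let mC : Ideal C := IsLocalRing.maximalIdeal (Localization.AtPrime 𝔮)
  haveI hmC : mC.IsPrime := (IsLocalRing.maximalIdeal.isMaximal (Localization.AtPrime 𝔮)).isPrime
  have h𝔭C : mC.comap iC.hom = 𝔭 := by
    show mC.comap (ℓ.hom.comp i₀.hom) = _
    rw [← Ideal.comap_comap, h𝔭q]
    congr 1
    exact Localization.AtPrime.comap_maximalIdeal
  have hiu : ∀ r, r ∉ 𝔭 → IsUnit (iC.hom r) := fun r hr => by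
    refine IsLocalization.map_units (Localization.AtPrime 𝔮) (⟨i₀.hom r, ?_⟩ : 𝔮.primeCompl)
    intro hr'
    rw [h𝔭q] at hr
    exact hr hr'
  let pC : Ideal C := 𝔭.map iC.hom
  let πK : CT ⟶ CommRingCat.of (MonoidAlgebra (C ⧸ pC) T) :=
    CommRingCat.ofHom (MonoidAlgebra.mapRingHom _ (Ideal.Quotient.mk pC))
  have e1 : ∀ r, πK.hom (s1.hom r) = MonoidAlgebra.single 1 (Ideal.Quotient.mk pC r) := fun r =>
    MonoidAlgebra.mapRingHom_single _ _ _
  have hρπ : ρ ≫ πK = s1 ≫ πK := by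
    refine huniq _ _ (by rw [reassoc_of% hρi]) ?_
    rw [Spec.map_comp, Category.assoc, hρx, hD πK (fun r hr => ?_) (fun r hr => ?_), Spec.map_comp, Category.assoc]
    · show πK.hom (s1.hom (iC.hom r)) = 0
      rw [e1, Ideal.Quotient.eq_zero_iff_mem.2 (Ideal.mem_map_of_mem _ hr), MonoidAlgebra.single_zero]
    · show IsUnit (πK.hom (s1.hom (iC.hom r)))
      rw [e1]
      exact ((hiu r hr).map (Ideal.Quotient.mk pC)).map MonoidAlgebra.singleOneRingHom
  have hft : i₀.hom.FiniteType := by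
    haveI : LocallyOfFiniteType (Spec.map i₀) := by rw [hi₀]; infer_instance
    exact (HasRingHomProperty.Spec_iff (P := @LocallyOfFiniteType)).1 inferInstance
  have hFG : FinGen iC.hom := (finGen_of_finiteType i₀.hom hft).of_isLocalization _ 𝔮.primeCompl
  have hcoef : ∀ (c : C) (t : T), t ≠ 1 → (ρ.hom c).coeff t = 0 := fun c t ht => by
    have h := coeff_eq_zero_at' iC.hom ρ.hom (fun r => congrArg (fun m => m.hom r) hρi) (fun c => ?_)
      (fun c => congrArg (fun m => m.hom c) hcounit) hFG mC (fun c t ht => ?_) c t ht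
    · obtain ⟨⟨s, hs⟩, hs0⟩ := (IsLocalization.map_eq_zero_iff mC.primeCompl _ _).1 h
      exact (IsLocalRing.notMem_maximalIdeal.1 hs).mul_right_eq_zero.1 hs0
    · have := congrArg (fun m => m.hom c) hassoc
      simp only [CommRingCat.hom_comp, RingHom.comp_apply, Lh, CommRingCat.hom_ofHom] at this
      refine Eq.trans ?_ this
      show _ = L (s2.hom.comp ρ.hom) χ₂ (ρ.hom c)
      exact RingHom.congr_fun (L_single_of (G := T) ρ.hom).symm _
    · have h3 : πK.hom (ρ.hom c) = πK.hom (s1.hom c) := congrArg (fun m => m.hom c) hρπ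
      rw [e1] at h3
      have h4 := congrArg (fun w => w.coeff t) h3
      simp [πK, Finsupp.single_apply, Ne.symm ht] at h4
      rw [h𝔭C]
      exact Ideal.mem_map_of_mem _ (Ideal.Quotient.eq_zero_iff_mem.1 h4)
  have htriv : ρ = s1 := CommRingCat.hom_ext (RingHom.ext fun c => by
    have h1 : ρ.hom c = MonoidAlgebra.single 1 ((ρ.hom c).coeff 1) := by
      classical
      ext t
      by_cases ht : t = 1
      · subst ht; simp
      · simp [hcoef c t ht, ht]
    have h2 : L (RingHom.id C) 1 (ρ.hom c) = c := congrArg (fun m => m.hom c) hcounit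
    rw [h1] at h2
    have h3 : (ρ.hom c).coeff 1 = c :=
      (mul_one ((ρ.hom c).coeff 1)).symm.trans ((L_single (RingHom.id C) (1 : T →* C) 1 _).symm.trans h2)
    exact h1.trans (congrArg (MonoidAlgebra.single (1 : T)) h3))
  -- evaluate
  have hk := key φ χ'
  rw [htriv, hs1] at hk
  refine Eq.trans ?_ hk.symm
  exact Aw_congr σ act _ _ (χ'.comp π₀) (by simp [pp, Spec.map_comp]) rfl

end Groth.Agent.TrivAct
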