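import Groth.Agent.TrivAct.SplitExt
import Groth.Agent.AvgPoint.Coord
import Groth.Agent.GaPoints.Basic
import Groth.Agent.TrivAct.FibreAlg
/-!
Homomorphisms from groups of multiplicative type to the additive group are trivial.
-/

set_option autoImplicit false
set_option backward.isDefEq.respectTransparency false
set_option backward.isDefEq.respectTransparency.types false
set_option linter.style.haveILetI false

universe u

open CategoryTheory CategoryTheory.Limits MonoidalCategory CartesianMonoidalCategory MonObj AlgebraicGeometry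

noncomputable section

namespace Groth.Agent.TrivAct

open FixedSmooth MonoidAlgebra

section Alg

variable {B : Type u} [CommRing B] {A : Type} [CommGroup A]

/-- Evaluation at a pair of universal characters. -/
theorem coeff_L_pair (w : MonoidAlgebra B A) (k l : A) [DecidableEq A] :
    ((L ((singleOneRingHom : MonoidAlgebra B A →+* MonoidAlgebra (MonoidAlgebra B A) A).comp singleOneRingHom)
        (of (MonoidAlgebra B A) A *
          ((singleOneRingHom : MonoidAlgebra B A →+* MonoidAlgebra (MonoidAlgebra B A) A).toMonoidHom.comp (of B A)))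
        w).coeff k).coeff l = if k = l then w.coeff k else 0 :=
  coeff_double' w k l

theorem coeff_L_of (w : MonoidAlgebra B A) (k l : A) [DecidableEq A] :
    ((L ((singleOneRingHom : MonoidAlgebra B A →+* MonoidAlgebra (MonoidAlgebra B A) A).comp singleOneRingHom)
        (of (MonoidAlgebra B A) A) w).coeff k).coeff l = if l = 1 then w.coeff k else 0 := by
  induction w using MonoidAlgebra.induction_linear with
  | zero => simp
  | add a b ha hb =>
    simp only [map_add, coeff_add, Finsupp.add_apply, ha, hb]
    split_ifs <;> simp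
  | single j r =>
    simp only [L_single, RingHom.coe_comp, Function.comp_apply, of_apply, singleOneRingHom_apply, single_mul_single,
      one_mul, mul_one, coeff_single]
    by_cases hj : j = k
    · subst hj
      simp [Finsupp.single_apply, eq_comm]
    · simp [Finsupp.single_apply, hj]

theorem coeff_L_of' (w : MonoidAlgebra B A) (k l : A) [DecidableEq A] :
    ((L ((singleOneRingHom : MonoidAlgebra B A →+* MonoidAlgebra (MonoidAlgebra B A) A).comp singleOneRingHom)
        ((singleOneRingHom : MonoidAlgebra B A →+* MonoidAlgebra (MonoidAlgebra B A) A).toMonoidHom.comp (of B A))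
        w).coeff k).coeff l = if k = 1 then w.coeff l else 0 := by
  induction w using MonoidAlgebra.induction_linear with
  | zero => simp
  | add a b ha hb =>
    simp only [map_add, coeff_add, Finsupp.add_apply, ha, hb]
    split_ifs <;> simp
  | single j r =>
    simp only [L_single, RingHom.coe_comp, Function.comp_apply, MonoidHom.coe_comp, RingHom.toMonoidHom_eq_coe,
      MonoidHom.coe_coe, of_apply, singleOneRingHom_apply, single_mul_single, one_mul, mul_one, coeff_single]
    by_cases hk : k = 1
    · subst hk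
      simp [Finsupp.single_apply]
    · simp [Finsupp.single_apply, hk, Ne.symm hk]

/-- An additive element of a group algebra is zero. -/
theorem eq_zero_of_additive (w : MonoidAlgebra B A)
    (h : ∀ {B' : Type u} [CommRing B'] (f : B →+* B') (χ χ' : A →* B'),
      L f (χ * χ') w = L f χ w + L f χ' w) : w = 0 := by
  classical
  have hkl := fun k l => congrArg (fun z => (z.coeff k).coeff l)
    (h ((singleOneRingHom : MonoidAlgebra B A →+* MonoidAlgebra (MonoidAlgebra B A) A).comp singleOneRingHom)
      (of (MonoidAlgebra B A) A)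
      ((singleOneRingHom : MonoidAlgebra B A →+* MonoidAlgebra (MonoidAlgebra B A) A).toMonoidHom.comp (of B A)))
  simp only [coeff_L_pair, coeff_add, Finsupp.add_apply, coeff_L_of, coeff_L_of'] at hkl
  ext k
  have := hkl k k
  by_cases hk : k = 1
  · subst hk; simpa using this
  · simpa [hk] using this

end Alg

variable {S : Scheme.{u}} {H : Over S} [GrpObj H]

/-- The function of a point of the additive group over an affine scheme. -/
abbrev gaVal {B : CommRingCat.{u}} {q : Spec B ⟶ S} (x : Over.mk q ⟶ Red.Ga S) : B :=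
  (Scheme.ΓSpecIso B).hom (Red.gaFn x)

theorem gaVal_comp {B B' : CommRingCat.{u}} {q : Spec B ⟶ S} {q' : Spec B' ⟶ S} (e : Over.mk q' ⟶ Over.mk q)
    (g : B ⟶ B') (he : e.left = Spec.map g) (x : Over.mk q ⟶ Red.Ga S) : gaVal (e ≫ x) = g.hom (gaVal x) := by
  unfold gaVal
  rw [GaPoints.gaFn_comp, he]
  exact congrArg (fun m => m.hom (Red.gaFn x)) (Scheme.ΓSpecIso_naturality g)

theorem gaVal_mul {B : CommRingCat.{u}} {q : Spec B ⟶ S} (x y : Over.mk q ⟶ Red.Ga S) :
    gaVal (x * y) = gaVal x + gaVal y := by
  unfold gaVal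
  rw [GaPoints.gaFn_mul]
  exact map_add (Scheme.ΓSpecIso B).hom.hom _ _

theorem gaVal_injective {B : CommRingCat.{u}} {q : Spec B ⟶ S} :
    Function.Injective (gaVal (S := S) (B := B) (q := q)) := fun x y h =>
  GaPoints.gaFn_injective ((ConcreteCategory.bijective_of_isIso (Scheme.ΓSpecIso B).hom).1 h)

/-- Homomorphisms to the additive group are trivial. -/
theorem hom_ga_trivial (hH : HasSplitCovers H) (u : H ⟶ Red.Ga S) [IsMonHom u] : u = 1 := by
  refine ext_of_split hH fun B q M _ σ w => ?_
  rw [MonObj.comp_one]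
  let BM : CommRingCat.{u} := CommRingCat.of (MonoidAlgebra B (Multiplicative M))
  let P : BM := gaVal (σ.pt BM (Spec.map (AvgPoint.s1 B M)) (MonoidAlgebra.of B (Multiplicative M)) ≫ u)
  have key : ∀ {B' : CommRingCat.{u}} (f : B ⟶ B') (χ : Multiplicative M →* B'),
      gaVal (σ.pt B' (Spec.map f) χ ≫ u) = L f.hom χ P := fun {B'} f χ => by
    let g : BM ⟶ B' := CommRingCat.ofHom (L f.hom χ)
    have hg : Spec.map g ≫ Spec.map (AvgPoint.s1 B M) = Spec.map f := by
      rw [← Spec.map_comp]
      exact congrArg Spec.map (CommRingCat.hom_ext (L_comp_single f.hom χ))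
    let e : Over.mk (Spec.map f ≫ q) ⟶ Over.mk (Spec.map (AvgPoint.s1 B M) ≫ q) :=
      Over.homMk (Spec.map g) (by
        show Spec.map g ≫ Spec.map (AvgPoint.s1 B M) ≫ q = Spec.map f ≫ q
        rw [← Category.assoc, hg])
    have he : e ≫ σ.pt BM (Spec.map (AvgPoint.s1 B M)) (MonoidAlgebra.of B (Multiplicative M)) =
        σ.pt B' (Spec.map f) χ := by
      apply Over.OverMorphism.ext
      have key' : ∀ (p p' : Spec B' ⟶ Spec B) (χ' : Multiplicative M →* B'), p = p' →
          (σ.pt B' p χ').left = (σ.pt B' p' χ').left := by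
        rintro p p' χ' rfl; rfl
      show Spec.map g ≫ _ = _
      rw [AvgPoint.tr_comp_pt_left, key' _ _ _ hg]
      congr 2
      exact L_comp_of f.hom χ
    rw [← he, Category.assoc, gaVal_comp e g rfl]
    rfl
  have hP : P = 0 := eq_zero_of_additive P fun {B'} _ f χ χ' => by
    have h1 := key (B' := CommRingCat.of B') (CommRingCat.ofHom f)
    refine (h1 (χ * χ')).symm.trans (Eq.trans ?_ (congrArg₂ (· + ·) (h1 χ) (h1 χ')))
    rw [map_mul]
    exact (congrArg gaVal (MonObj.mul_comp _ _ u)).trans (gaVal_mul _ _)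
  let i : Over.mk q ⟶ Over.mk (Spec.map (𝟙 B) ≫ q) := Over.homMk (Spec.map (𝟙 B)) (by
    show Spec.map (𝟙 B) ≫ Spec.map (𝟙 B) ≫ q = q
    simp)
  let i' : Over.mk (Spec.map (𝟙 B) ≫ q) ⟶ Over.mk q := Over.homMk (Spec.map (𝟙 B)) (by rfl)
  obtain ⟨χ, hχ⟩ := (σ.pt B (Spec.map (𝟙 B))).surjective (i' ≫ w)
  have e : w = i ≫ i' ≫ w := by
    rw [← Category.assoc]
    have : i ≫ i' = 𝟙 _ := Over.OverMorphism.ext (by simp [i, i'])
    rw [this, Category.id_comp]
  apply gaVal_injective
  have h0 : gaVal (1 : Over.mk q ⟶ Red.Ga S) = 0 := by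
    show (Scheme.ΓSpecIso B).hom.hom (Red.gaFn (1 : Over.mk q ⟶ Red.Ga S)) = 0
    rw [GaPoints.gaFn_one]
    exact map_zero _
  rw [h0, e, Category.assoc, gaVal_comp i (𝟙 B) rfl, ← hχ, key, hP, map_zero, map_zero]

end Groth.Agent.TrivAct
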