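import Groth.Agent.TrivAct.Chart
/-!
An action of a group of multiplicative type which is trivial modulo a nilpotent ideal is trivial.
-/

set_option autoImplicit false
set_option backward.isDefEq.respectTransparency false
set_option backward.isDefEq.respectTransparency.types false
set_option linter.style.haveILetI false

universe u

open CategoryTheory CategoryTheory.Limits MonoidalCategory CartesianMonoidalCategory MonObj AlgebraicGeometry

noncomputable section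

namespace Groth.Agent.TrivAct

open FixedSmooth

variable {S : Scheme.{u}}

/-- Finite flat affine covers of affine opens on which the group is split. -/
def HasSplitCovers (G : Over S) [GrpObj G] : Prop :=
  ∀ U : S.Opens, IsAffineOpen U → ∃ (κ : Type u) (_ : Finite κ) (A : κ → Scheme.{u}) (_ : ∀ i, IsAffine (A i))
    (g : ∀ i, A i ⟶ U.toScheme), (∀ i, Flat (g i)) ∧ (∀ p : U.toScheme, ∃ (i : κ) (a : A i), g i a = p) ∧
    ∀ i, ∃ (M : Type) (_ : AddCommGroup M), Nonempty (Split G (g i ≫ U.ι) M)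

theorem hasSplitCovers_of_isMultTypeLoc {G : Over S} [GrpObj G] (hG : WeilClosedLib.IsMultTypeLoc G) :
    HasSplitCovers G := by
  intro U hU
  obtain ⟨S', f, hflat, hsurj, hqc, hloc⟩ := hG
  obtain ⟨W, hWc, hW⟩ := hqc U hU
  have hW' : W ≤ f ⁻¹ᵁ U := fun w hw => hW.subset ⟨w, hw, rfl⟩
  choose O hO M instM e using hloc
  have hA : ∀ w : W, ∃ A : S'.Opens, IsAffineOpen A ∧ w.1 ∈ A ∧ A ≤ O w.1 ⊓ W := fun w => by
    obtain ⟨A, hA, hwA, hle⟩ := exists_isAffineOpen_mem_and_subset (x := w.1) (U := O w.1 ⊓ W) ⟨hO w.1, w.2⟩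
    exact ⟨A, hA, hwA, hle⟩
  choose A hAa hwA hAle using hA
  obtain ⟨t, ht⟩ := hWc.elim_finite_subcover (fun w : W => (A w : Set S')) (fun w => (A w).2)
    fun w hw => Set.mem_iUnion.2 ⟨⟨w, hw⟩, hwA _⟩
  refine ⟨↥t, inferInstance, fun w => (A w.1).toScheme, fun w => hAa w.1,
    fun w => f.resLE U (A w.1) (((hAle w.1).trans inf_le_right).trans hW'), fun w => inferInstance, fun p => ?_,
    fun w => ?_⟩
  · obtain ⟨x, hx, hxp⟩ := hW.superset p.2
    obtain ⟨w, hwt, hxA⟩ := Set.mem_iUnion₂.1 (ht hx)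
    refine ⟨⟨w, hwt⟩, ⟨x, hxA⟩, U.ι.isOpenEmbedding.injective ?_⟩
    rw [← Scheme.Hom.comp_apply, Scheme.Hom.resLE_comp_ι]
    exact hxp
  · letI := instM w.1.1
    obtain ⟨σ⟩ := exists_split ((O w.1.1).ι ≫ f) (M w.1.1) (e w.1.1).some
    exact ⟨M w.1.1, instM w.1.1,
      ⟨σ.comp (S'.homOfLE ((hAle w.1).trans inf_le_left)) (by simp)⟩⟩

variable {S₀ : Scheme.{u}} (i₀ : S₀ ⟶ S) [IsClosedImmersion i₀] {G X : Over S} [GrpObj G]

theorem act_trivial_on_chart (hG : HasSplitCovers G) (act : G ⊗ X ⟶ X)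
    (hact : ∀ (Y : Over S) (h h' : Y ⟶ G) (x : Y ⟶ X),
      lift h (lift h' x ≫ act) ≫ act = lift (h * h') x ≫ act)
    (hone : ∀ (Y : Over S) (x : Y ⟶ X), lift (1 : Y ⟶ G) x ≫ act = x)
    (h0 : ∀ (Y : Over S) (p : Y ⟶ Over.mk i₀) (g : Y ⟶ G) (x : Y ⟶ X), lift g x ≫ act = x)
    (U : S.affineOpens) (hI : IsNilpotent (i₀.ker.ideal U))
    (W : X.left.Opens) (hW : IsAffineOpen W) (hWU : W ≤ X.hom ⁻¹ᵁ U.1)
    (B : CommRingCat.{u}) (p : Spec B ⟶ S) (g : Over.mk p ⟶ G) (x : Over.mk p ⟶ X)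
    (hx : Set.range x.left ⊆ (W : Set X.left)) :
    (lift g x ≫ act).left = x.left := by
  haveI : IsAffine U.1.toScheme := U.2
  haveI : IsAffine W.toScheme := hW
  have hr : Set.range p ⊆ Set.range U.1.ι := by
    rw [Scheme.Opens.range_ι]
    rintro _ ⟨t, rfl⟩
    have := hWU (hx ⟨t, rfl⟩)
    show p t ∈ U.1
    have e : x.left ≫ X.hom = p := Over.w x
    rw [← e]
    exact this
  let r : Spec B ⟶ U.1.toScheme := IsOpenImmersion.lift U.1.ι p hr
  obtain ⟨κ, _, A, hA, k, hk, hks, hσ⟩ := hG U.1 U.2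
  haveI := hA
  haveI := hk
  haveI : ∀ i, IsAffine (pullback (k i) r) := fun i => inferInstance
  let f : ∀ i, pullback (k i) r ⟶ Spec B := fun i => pullback.snd (k i) r
  haveI : Flat (Sigma.desc f) := by
    haveI : IsZariskiLocalAtSource (@Flat.{u}) :=
      HasRingHomProperty.instIsZariskiLocalAtSource.{u} (Q := RingHom.Flat)
    exact IsZariskiLocalAtSource.sigmaDesc fun i => inferInstance
  haveI : Surjective (Sigma.desc f) := ⟨fun t => by
    obtain ⟨i, a, ha⟩ := hks (r t)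
    obtain ⟨z, -, hz⟩ := Scheme.Pullback.exists_preimage_pullback a t ha
    refine ⟨Sigma.ι (fun i => pullback (k i) r) i z, ?_⟩
    erw [← Scheme.Hom.comp_apply, Sigma.ι_desc]
    exact hz⟩
  haveI : Epi (Sigma.desc f) := Flat.epi_of_flat_of_surjective _
  refine (cancel_epi (Sigma.desc f)).1 (Sigma.hom_ext _ _ fun i => ?_)
  rw [← Category.assoc, ← Category.assoc, Sigma.ι_desc]
  -- the piece
  obtain ⟨M, _, ⟨σ⟩⟩ := hσ i
  let P := pullback (k i) r
  let Bi : CommRingCat.{u} := Γ(P, ⊤)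
  let q : Spec Bi ⟶ A i := P.isoSpec.inv ≫ pullback.fst (k i) r
  let fi : Spec Bi ⟶ Spec B := P.isoSpec.inv ≫ f i
  let b := k i ≫ U.1.ι
  have hfi : fi ≫ p = q ≫ b := by
    show (P.isoSpec.inv ≫ pullback.snd (k i) r) ≫ p = (P.isoSpec.inv ≫ pullback.fst (k i) r) ≫ k i ≫ U.1.ι
    rw [Category.assoc, Category.assoc, pullback.condition_assoc, IsOpenImmersion.lift_fac]
  haveI : IsAffine (pullback (W.ι ≫ X.hom) (q ≫ b)) :=
    isAffine_pullback_of_factor U.1 _ _ (X.hom.resLE U.1 W hWU) (q ≫ k i) (Scheme.Hom.resLE_comp_ι _ _)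
      (Category.assoc _ _ _)
  let α : Γ(S, U.1) ⟶ Bi := Spec.preimage (q ≫ k i ≫ U.2.isoSpec.hom)
  have hα : Spec.map α ≫ U.2.fromSpec = q ≫ b := by
    rw [Spec.map_preimage, ← IsAffineOpen.isoSpec_inv_ι]
    simp [b]
  let J : Ideal Bi := (i₀.ker.ideal U).map α.hom
  have hJ : IsNilpotent J := by
    obtain ⟨n, hn⟩ := hI
    exact ⟨n, by rw [← Ideal.map_pow, hn, Ideal.zero_eq_bot, Ideal.map_bot]; rfl⟩
  have h0' : ∀ {B' : CommRingCat.{u}} (g : Bi ⟶ B'), J ≤ RingHom.ker g.hom →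
      ∀ (h : Over.mk ((Spec.map g ≫ q) ≫ b) ⟶ G) (y : Over.mk ((Spec.map g ≫ q) ≫ b) ⟶ X), lift h y ≫ act = y :=
    fun {B'} g hg h y => by
    have hV₀ : IsAffineOpen (i₀ ⁻¹ᵁ U.1) := U.2.preimage i₀
    have hker : RingHom.ker (i₀.app U.1).hom ≤ RingHom.ker (α ≫ g).hom := fun a ha => by
      rw [← Scheme.Hom.ker_apply] at ha
      exact hg (Ideal.mem_map_of_mem _ ha)
    let β : Γ(S₀, i₀ ⁻¹ᵁ U.1) ⟶ B' := CommRingCat.ofHom
      (RingHom.liftOfSurjective (i₀.app U.1).hom (i₀.app_surjective _ U.2) ⟨(α ≫ g).hom, hker⟩)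
    have hβ : i₀.app U.1 ≫ β = α ≫ g := CommRingCat.hom_ext (RingHom.liftOfRightInverse_comp _ _ _ _)
    refine h0 _ (Over.homMk (Spec.map β ≫ hV₀.fromSpec) ?_) h y
    show (Spec.map β ≫ hV₀.fromSpec) ≫ i₀ = (Spec.map g ≫ q) ≫ b
    rw [Category.assoc, Category.assoc, ← IsAffineOpen.SpecMap_appLE_fromSpec i₀ U.2 hV₀ le_rfl,
      ← Scheme.Hom.app_eq_appLE, ← Category.assoc, ← Spec.map_comp, hβ, Spec.map_comp, Category.assoc, hα]
  let w : Over.mk (q ≫ b) ⟶ Over.mk p := Over.homMk fi hfi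
  have := act_fixes_chart act hact hone σ Bi q W J hJ h0' (w ≫ g) (w ≫ x) (by
    rintro _ ⟨t, rfl⟩
    exact hx ⟨fi t, (Scheme.Hom.comp_apply fi x.left t).symm⟩)
  rw [← comp_lift] at this
  have e : (fi ≫ (lift g x).left) ≫ act.left = fi ≫ x.left := congrArg CommaMorphism.left this
  rw [← cancel_epi P.isoSpec.inv]
  simpa [w, fi] using e

/-- An action trivial modulo a nilpotent ideal is trivial. -/
theorem act_trivial (hG : HasSplitCovers G) (act : G ⊗ X ⟶ X)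
    (hact : ∀ (Y : Over S) (h h' : Y ⟶ G) (x : Y ⟶ X),
      lift h (lift h' x ≫ act) ≫ act = lift (h * h') x ≫ act)
    (hone : ∀ (Y : Over S) (x : Y ⟶ X), lift (1 : Y ⟶ G) x ≫ act = x)
    (hnil : ∀ x : S, ∃ U : S.affineOpens, x ∈ (U : S.Opens) ∧ IsNilpotent (i₀.ker.ideal U))
    (h0 : ∀ (Y : Over S) (p : Y ⟶ Over.mk i₀) (g : Y ⟶ G) (x : Y ⟶ X), lift g x ≫ act = x)
    (Y : Over S) (g : Y ⟶ G) (x : Y ⟶ X) : lift g x ≫ act = x := by
  apply Over.OverMorphism.ext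
  refine Scheme.hom_ext_of_forall _ _ fun y => ?_
  obtain ⟨U, hyU, hI⟩ := hnil (X.hom (x.left y))
  obtain ⟨W, hW, hyW, hWU⟩ :=
    exists_isAffineOpen_mem_and_subset (x := x.left y) (U := X.hom ⁻¹ᵁ U.1) hyU
  obtain ⟨D, hD, hyD, hDW⟩ := exists_isAffineOpen_mem_and_subset (x := y) (U := x.left ⁻¹ᵁ W) hyW
  refine ⟨D, hyD, ?_⟩
  let w : Over.mk (hD.fromSpec ≫ Y.hom) ⟶ Y := Over.homMk hD.fromSpec rfl
  have := act_trivial_on_chart i₀ hG act hact hone h0 U hI W hW hWU Γ(Y.left, D) (hD.fromSpec ≫ Y.hom)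
    (w ≫ g) (w ≫ x) (by
      rintro _ ⟨t, rfl⟩
      show (hD.fromSpec ≫ x.left) t ∈ W
      rw [Scheme.Hom.comp_apply]
      exact hDW (hD.range_fromSpec.subset ⟨t, rfl⟩))
  rw [← comp_lift] at this
  replace this : (hD.fromSpec ≫ (lift g x).left) ≫ act.left = hD.fromSpec ≫ x.left := this
  rw [Category.assoc] at this
  have e : hD.isoSpec.inv ≫ D.ι = hD.fromSpec := hD.isoSpec_inv_ι
  rw [← cancel_epi hD.isoSpec.inv, ← Category.assoc, ← Category.assoc, e]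
  exact this

end Groth.Agent.TrivAct
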