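import Groth.Agent.TrivAct.Descent
import Groth.Agent.TrivAct.FibreChart
/-!
An action of a group of multiplicative type on a scheme locally of finite type which is trivial on all fibres is trivial.
-/

set_option autoImplicit false
set_option backward.isDefEq.respectTransparency false
set_option backward.isDefEq.respectTransparency.types false
set_option linter.style.haveILetI false

universe u

open CategoryTheory CategoryTheory.Limits MonoidalCategory CartesianMonoidalCategory MonObj AlgebraicGeometry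

noncomputable section

namespace Groth.Agent.TrivAct

open FixedSmooth

variable {S : Scheme.{u}} {G X : Over S} [GrpObj G] [LocallyOfFiniteType X.hom]

theorem act_trivial_on_chart_fibres (hG : HasSplitCovers G) (act : G ⊗ X ⟶ X)
    (hact : ∀ (Y : Over S) (h h' : Y ⟶ G) (x : Y ⟶ X),
      lift h (lift h' x ≫ act) ≫ act = lift (h * h') x ≫ act)
    (hone : ∀ (Y : Over S) (x : Y ⟶ X), lift (1 : Y ⟶ G) x ≫ act = x)
    (h0 : ∀ (s : S) (Y : Over S) (_ : Y ⟶ Over.mk (S.fromSpecResidueField s)) (g : Y ⟶ G) (x : Y ⟶ X),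
      lift g x ≫ act = x)
    (U : S.affineOpens)
    (W : X.left.Opens) (hW : IsAffineOpen W) (hWU : W ≤ X.hom ⁻¹ᵁ U.1)
    (B : CommRingCat.{u}) (p : Spec B ⟶ S) (g : Over.mk p ⟶ G) (x : Over.mk p ⟶ X)
    (hx : Set.range x.left ⊆ (W : Set X.left)) :
    (lift g x ≫ act).left = x.left := by
  haveI : IsAffine U.1.toScheme := U.2
  haveI : IsAffine W.toScheme := hW
  have hr : Set.range p ⊆ Set.range U.1.ι := by
    rw [Scheme.Opens.range_ι]
    rintro _ ⟨t, rfl⟩
    have := hWU (hx ⟨t, rfl⟩)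
    show p t ∈ U.1
    have e : x.left ≫ X.hom = p := Over.w x
    rw [← e]
    exact this
  let r : Spec B ⟶ U.1.toScheme := IsOpenImmersion.lift U.1.ι p hr
  obtain ⟨κ, _, A, hA, k, hk, hks, hσ⟩ := hG U.1 U.2
  haveI := hA
  haveI := hk
  haveI : ∀ i, IsAffine (pullback (k i) r) := fun i => inferInstance
  let f : ∀ i, pullback (k i) r ⟶ Spec B := fun i => pullback.snd (k i) r
  haveI : Flat (Sigma.desc f) := by
    haveI : IsZariskiLocalAtSource (@Flat.{u}) :=
      HasRingHomProperty.instIsZariskiLocalAtSource.{u} (Q := RingHom.Flat)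
    exact IsZariskiLocalAtSource.sigmaDesc fun i => inferInstance
  haveI : Surjective (Sigma.desc f) := ⟨fun t => by
    obtain ⟨i, a, ha⟩ := hks (r t)
    obtain ⟨z, -, hz⟩ := Scheme.Pullback.exists_preimage_pullback a t ha
    refine ⟨Sigma.ι (fun i => pullback (k i) r) i z, ?_⟩
    erw [← Scheme.Hom.comp_apply, Sigma.ι_desc]
    exact hz⟩
  haveI : Epi (Sigma.desc f) := Flat.epi_of_flat_of_surjective _
  refine (cancel_epi (Sigma.desc f)).1 (Sigma.hom_ext _ _ fun i => ?_)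
  rw [← Category.assoc, ← Category.assoc, Sigma.ι_desc]
  -- the piece
  obtain ⟨M, _, ⟨σ⟩⟩ := hσ i
  let P := pullback (k i) r
  let Bi : CommRingCat.{u} := Γ(P, ⊤)
  let q : Spec Bi ⟶ A i := P.isoSpec.inv ≫ pullback.fst (k i) r
  let fi : Spec Bi ⟶ Spec B := P.isoSpec.inv ≫ f i
  let b := k i ≫ U.1.ι
  have hfi : fi ≫ p = q ≫ b := by
    show (P.isoSpec.inv ≫ pullback.snd (k i) r) ≫ p = (P.isoSpec.inv ≫ pullback.fst (k i) r) ≫ k i ≫ U.1.ι
    rw [Category.assoc, Category.assoc, pullback.condition_assoc, IsOpenImmersion.lift_fac]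
  haveI : IsAffine (pullback (W.ι ≫ X.hom) (q ≫ b)) :=
    isAffine_pullback_of_factor U.1 _ _ (X.hom.resLE U.1 W hWU) (q ≫ k i) (Scheme.Hom.resLE_comp_ι _ _)
      (Category.assoc _ _ _)
  have h0' : ∀ (P : PrimeSpectrum Bi) {B' : CommRingCat.{u}} (g : Bi ⟶ B'), P.asIdeal ≤ RingHom.ker g.hom →
      (∀ r, r ∉ P.asIdeal → IsUnit (g.hom r)) →
      ∀ (h : Over.mk ((Spec.map g ≫ q) ≫ b) ⟶ G) (y : Over.mk ((Spec.map g ≫ q) ≫ b) ⟶ X), lift h y ≫ act = y :=
    fun P {B'} g hg hu h y => by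
    let k : CommRingCat.of P.asIdeal.ResidueField ⟶ B' :=
      CommRingCat.ofHom (Ideal.ResidueField.lift P.asIdeal g.hom hg fun r hr => hu r hr)
    let t : Spec (CommRingCat.of P.asIdeal.ResidueField) ⟶ S :=
      Spec.map (CommRingCat.ofHom (algebraMap Bi P.asIdeal.ResidueField)) ≫ q ≫ b
    have hk : CommRingCat.ofHom (algebraMap Bi P.asIdeal.ResidueField) ≫ k = g :=
      CommRingCat.hom_ext (RingHom.ext fun r => Ideal.ResidueField.lift_algebraMap P.asIdeal g.hom hg (fun r hr => hu r hr) r)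
    refine h0 (t (IsLocalRing.closedPoint P.asIdeal.ResidueField)) _ (Over.homMk
      (Spec.map k ≫ Spec.map (Scheme.descResidueField (Scheme.stalkClosedPointTo t))) ?_) h y
    show (Spec.map k ≫ Spec.map _) ≫ S.fromSpecResidueField _ = (Spec.map g ≫ q) ≫ b
    rw [Category.assoc, Scheme.descResidueField_stalkClosedPointTo_fromSpecResidueField, ← hk, Spec.map_comp]
    simp only [t, Category.assoc]
  let w : Over.mk (q ≫ b) ⟶ Over.mk p := Over.homMk fi hfi
  have := act_fixes_chart_fibres act hact hone σ Bi q W inferInstance h0' (w ≫ g) (w ≫ x) (by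
    rintro _ ⟨t, rfl⟩
    exact hx ⟨fi t, (Scheme.Hom.comp_apply fi x.left t).symm⟩)
  rw [← comp_lift] at this
  have e : (fi ≫ (lift g x).left) ≫ act.left = fi ≫ x.left := congrArg CommaMorphism.left this
  rw [← cancel_epi P.isoSpec.inv]
  simpa [w, fi] using e

/-- An action trivial on all fibres is trivial. -/
theorem act_trivial_of_fibres (hG : HasSplitCovers G) (act : G ⊗ X ⟶ X)
    (hact : ∀ (Y : Over S) (h h' : Y ⟶ G) (x : Y ⟶ X),
      lift h (lift h' x ≫ act) ≫ act = lift (h * h') x ≫ act)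
    (hone : ∀ (Y : Over S) (x : Y ⟶ X), lift (1 : Y ⟶ G) x ≫ act = x)
    (h0 : ∀ (s : S) (Y : Over S) (_ : Y ⟶ Over.mk (S.fromSpecResidueField s)) (g : Y ⟶ G) (x : Y ⟶ X),
      lift g x ≫ act = x)
    (Y : Over S) (g : Y ⟶ G) (x : Y ⟶ X) : lift g x ≫ act = x := by
  apply Over.OverMorphism.ext
  refine Scheme.hom_ext_of_forall _ _ fun y => ?_
  obtain ⟨V, hV, hyV, -⟩ := exists_isAffineOpen_mem_and_subset (x := X.hom (x.left y)) (U := ⊤) trivial
  let U : S.affineOpens := ⟨V, hV⟩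
  have hyU : X.hom (x.left y) ∈ U.1 := hyV
  obtain ⟨W, hW, hyW, hWU⟩ :=
    exists_isAffineOpen_mem_and_subset (x := x.left y) (U := X.hom ⁻¹ᵁ U.1) hyU
  obtain ⟨D, hD, hyD, hDW⟩ := exists_isAffineOpen_mem_and_subset (x := y) (U := x.left ⁻¹ᵁ W) hyW
  refine ⟨D, hyD, ?_⟩
  let w : Over.mk (hD.fromSpec ≫ Y.hom) ⟶ Y := Over.homMk hD.fromSpec rfl
  have := act_trivial_on_chart_fibres hG act hact hone h0 U W hW hWU Γ(Y.left, D) (hD.fromSpec ≫ Y.hom)
    (w ≫ g) (w ≫ x) (by
      rintro _ ⟨t, rfl⟩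
      show (hD.fromSpec ≫ x.left) t ∈ W
      rw [Scheme.Hom.comp_apply]
      exact hDW (hD.range_fromSpec.subset ⟨t, rfl⟩))
  rw [← comp_lift] at this
  replace this : (hD.fromSpec ≫ (lift g x).left) ≫ act.left = hD.fromSpec ≫ x.left := this
  rw [Category.assoc] at this
  have e : hD.isoSpec.inv ≫ D.ι = hD.fromSpec := hD.isoSpec_inv_ι
  rw [← cancel_epi hD.isoSpec.inv, ← Category.assoc, ← Category.assoc, e]
  exact this

end Groth.Agent.TrivAct
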